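import Mathlib
import Cfsg.Agent.S1350
import Cfsg.Agent.S1358
import Cfsg.Agent.S1362
import Cfsg.Agent.S1404
import Cfsg.Agent.S1405
import Cfsg.Agent.S1409
import Cfsg.Agent.S1412
import Cfsg.Agent.S1414
import Cfsg.Agent.S1415
import Cfsg.Agent.S1416
import Cfsg.Agent.S1417
import Cfsg.Agent.S1418
import Cfsg.Agent.S1419
import Cfsg.Agent.S1420
import Cfsg.Agent.S1422
import Cfsg.Agent.S1423
import Cfsg.Agent.S1425
import Cfsg.Agent.S1426
import Cfsg.Agent.S1427
import Cfsg.Agent.S1428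
import Cfsg.Agent.S1429
import Cfsg.Agent.Lib.OddOrder.BG12Rows
import Cfsg.Agent.Lib.OddOrder.BG14ZA
import Cfsg.Agent.Lib.OddOrder.BG14HP
import Cfsg.Agent.Lib.OddOrder.BG14HQW
import Cfsg.Agent.Lib.OddOrder.BGPart
import Cfsg.Agent.Lib.OddOrder.BGPartF
import Cfsg.Agent.Lib.OddOrder.BGPT9
import Cfsg.Agent.Lib.OddOrder.BGCyc
import Cfsg.Agent.Lib.OddOrder.BGStd
import Cfsg.Agent.Lib.OddOrder.BG15A

/-!
# The Bender-Glauberman rows assembled, first layer: no row S1421, no non-TI lemma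

`BGAssemble.hNNNN hG : HNNNN G`.  The order of the definitions below is the dependency order of the
rows of sections 13-15 of Bender-Glauberman.
-/

set_option autoImplicit false
set_option linter.unusedVariables false
set_option linter.unusedSectionVars false

namespace Cfsg.Agent.Lib.OddOrder.BGAssemble

open Cfsg Subgroup
open Cfsg.Agent.Lib.OddOrder.BGRows
open Cfsg.Agent.Lib.OddOrder

universe u

variable {G : Type u} [Group G] [Finite G] (hG : IsMinSimpleOddOrder G)

include hG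

theorem inputs : BG12.Inputs G := BG12.inputs hG

theorem h1350 : H1350 G := Cfsg.Agent.S1350.result hG
theorem h1404 : H1404 G := Cfsg.Agent.S1404.result hG
theorem h1405 : H1405 G := Cfsg.Agent.S1405.result hG
theorem h1409 : H1409 G := Cfsg.Agent.S1409.result hG
theorem h1412 : H1412 G := Cfsg.Agent.S1412.result hG
theorem h1414 : H1414 G := Cfsg.Agent.S1414.result hG
theorem h1415 : H1415 G := Cfsg.Agent.S1415.result hG
theorem h1416 : H1416 G := Cfsg.Agent.S1416.result hG
theorem h1417 : H1417 G := Cfsg.Agent.S1417.result hG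
theorem h1418 : H1418 G := Cfsg.Agent.S1418.result hG
theorem h1419 : H1419 G := Cfsg.Agent.S1419.result hG
theorem h1420 : H1420 G := Cfsg.Agent.S1420.result hG
theorem h1422 : H1422 G := Cfsg.Agent.S1422.result hG
theorem h1423 : H1423 G := Cfsg.Agent.S1423.result hG
theorem h1425 : H1425 G := Cfsg.Agent.S1425.result hG
theorem h1426 : H1426 G := Cfsg.Agent.S1426.result hG
theorem h1427 : H1427 G := Cfsg.Agent.S1427.result hG
theorem h1428 : H1428 G := Cfsg.Agent.S1428.result hG
theorem h1429 : H1429 G := Cfsg.Agent.S1429.result hG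

/-- The input structure of the `τ₃` world. -/
theorem wHyps : BG14V.WHyps G where
  I := inputs hG
  h1350 := h1350 hG
  h1404 := h1404 hG
  h1420 := h1420 hG
  hA := BG14H.claimA hG
  hP := BG14H.thmP hG (h1428 hG)
  h1409 := h1409 hG
  h1415 := h1415 hG
  h1417 := h1417 hG
  h1418 := h1418 hG
  h1423 := h1423 hG
  h1426 := h1426 hG
  h1427 := h1427 hG
  h1428 := h1428 hG
  hMix := BG14H.mix hG (h1428 hG)

theorem h1430 : H1430 G := BG14V.S1430_core (wHyps hG)
theorem h1431 : H1431 G := BG14V.S1431_core (wHyps hG) (h1425 hG)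
theorem h1432 : H1432 G := BG14V.S1432_core (wHyps hG)
theorem h1433 : H1433 G := BG14H.S1433_of hG (h1428 hG) (h1432 hG)
theorem hConj : BGPart.ConjHyp G := BG14H.thmP hG (h1428 hG)
theorem h1377 : H1377 G :=
  BGPart.S1377_core (inputs hG) (hConj hG) (h1350 hG) (h1432 hG) (h1433 hG)

/-- The inputs of sections 13-14 of Bender-Glauberman on the partner. -/
theorem pInp : BGPT.PInp G where
  hG := hG
  h1350 := h1350 hG
  h1404 := h1404 hG
  h1429 := h1429 hG
  h1430 := h1430 hG
  h1431 := h1431 hG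
  h1432 := h1432 hG
  h1377 := h1377 hG
  part := hConj hG
  tilde_disj := fun M N hM hN hne =>
    BGPart.tilde_disjoint (inputs hG) (hConj hG) (h1350 hG) (h1432 hG) (h1433 hG) M N hM hN hne
  zhat_tilde := fun M K hM hK hK1 N hN y z hz =>
    BGPart.zhat_not_tilde (inputs hG) (hConj hG) (h1350 hG) (h1431 hG) (h1432 hG) hM hK hK1 N hN y z hz

theorem h1366 : H1366 G := fun M hM K U hKU hK1 => BGPT.S1366_core (pInp hG) hM hKU.hall hK1
theorem h1367 : H1367 G := fun M hM K U hKU hK1 Mstar hMstar hKst hKstH =>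
  BGPT.S1367_core (pInp hG) hM hKU.hall hK1 hMstar hKst hKstH
theorem h1368 : H1368 G := fun M hM K U hKU hK1 Mstar hMstar hKst hKstH =>
  BGPT.S1368_core (pInp hG) hM hKU.hall hK1 hMstar hKst hKstH
theorem h1369 : H1369 G := fun M hM K U hKU hK1 Mstar hMstar hKst hKstH =>
  BGPT.S1369_core (pInp hG) hM hKU hK1 hMstar hKst hKstH
theorem h1370 : H1370 G := fun M hM K U hKU hK1 => BGPT.S1370_core (pInp hG) hM hKU.hall hK1
theorem h1371 : H1371 G := fun M hM K U hKU hK1 => BGPT.S1371_core (pInp hG) hM hKU hK1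
theorem h1373 : H1373 G := fun M hM K U hKU hK1 hU => BGPT.S1373_core (pInp hG) hM hKU hK1 hU
theorem h1434 : H1434 G := fun M hM K U hKU hK1 Mstar hMstar hKst hKstH =>
  BGPT.S1434_core (pInp hG) hM hKU hK1 hMstar hKst hKstH
theorem h1364 : H1364 G := fun M hM K U hKU hK1 =>
  BGPT.S1364_core (pInp hG) (h1426 hG) hM hKU hK1
theorem h1365 : H1365 G := fun M hM K U hKU hK1 =>
  BGPT.S1365_core (pInp hG) (h1426 hG) hM hKU hK1

theorem h1351 : H1351 G := fun M hM =>
  BGCyc.S1351_core ⟨hG, h1350 hG, h1404 hG, h1430 hG, h1431 hG, h1432 hG, hConj hG⟩ (h1377 hG)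
    (fun M N hM hN hne =>
      BGPart.tilde_disjoint (inputs hG) (hConj hG) (h1350 hG) (h1432 hG) (h1433 hG) M N hM hN hne)
    (h1429 hG) hM
theorem h1352 : H1352 G := fun M hM K hKc hK => BGStd.S1352_core (h1350 hG) (h1430 hG) hM hKc hK
theorem h1353 : H1353 G := fun M hM K U hKU => BGStd.S1353_core (h1430 hG) hM hKU
theorem h1354 : H1354 G := fun M hM K hKc hK => BGStd.S1354_core (h1430 hG) hM (BG12.sigmaCore_ne_bot (inputs hG) hM) hKc hK
theorem h1355 : H1355 G := BG15A.chain hG (h1350 hG) (h1351 hG) (h1352 hG) (h1354 hG) (h1364 hG)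
  (h1415 hG) (h1426 hG) (h1429 hG) (h1430 hG)

theorem h1374 : H1374 G := fun M hM x hx hx1 =>
  BGPart.S1374_core (inputs hG) (hConj hG) (h1432 hG) M hM x hx hx1
theorem h1375 : H1375 G := fun M hM x hx hx1 hxM =>
  BGPart.S1375_core (inputs hG) (hConj hG) (h1350 hG) (h1432 hG) M hM x hx hx1 hxM
theorem h1378 : H1378 G :=
  BGPart.S1378_core (inputs hG) (h1423 hG) (h1429 hG) (h1430 hG) (h1431 hG)
theorem h1379 : H1379 G :=
  BGPart.S1379_core (inputs hG) (hConj hG) (h1350 hG) (h1366 hG) (h1369 hG) (h1425 hG) (h1430 hG)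
    (h1431 hG) (h1432 hG) (h1433 hG)

end Cfsg.Agent.Lib.OddOrder.BGAssemble
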