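import Mathlib
import Cfsg.Agent.Lib.OddOrder.BGAssemble
import Cfsg.Agent.Lib.OddOrder.BG15I
import Cfsg.Agent.Lib.OddOrder.BGPT12
import Cfsg.Agent.Lib.OddOrder.BGPartH
import Cfsg.Agent.Lib.OddOrder.BG16T5

/-!
# The Bender-Glauberman rows assembled, second layer: everything depending on the row S1421

`h1421 : H1421 G` is a hypothesis here; `BGAssemble3` discharges it.
-/

set_option autoImplicit false
set_option linter.unusedVariables false
set_option linter.unusedSectionVars false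

namespace Cfsg.Agent.Lib.OddOrder.BGAssemble

open Cfsg Subgroup
open Cfsg.Agent.Lib.OddOrder.BGRows
open Cfsg.Agent.Lib.OddOrder

universe u

variable {G : Type u} [Group G] [Finite G] (hG : IsMinSimpleOddOrder G) (h1421 : H1421 G)

include hG h1421

theorem h1359 : H1359 G := fun M hM K U hKU =>
  BGStd.S1359_core hG (h1350 hG) h1421 (h1430 hG) hM hKU
theorem h1360 : H1360 G := fun M hM K U hKU =>
  BGStd.S1360_core hG (h1350 hG) (h1405 hG) (h1417 hG) (h1420 hG) h1421 (h1430 hG) hM hKU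
theorem h1361 : H1361 G := fun M hM K U hKU X hXU hX hXc =>
  BGStd.S1361_core hG (h1350 hG) (h1405 hG) (h1417 hG) (h1420 hG) h1421 (h1430 hG) hM hKU X hXU hX hXc
theorem h1438 : H1438 G :=
  BG15B.S1438_core hG (h1350 hG) (h1351 hG) (h1352 hG) (h1355 hG) (h1359 hG h1421) (h1364 hG)
    (h1365 hG) (h1374 hG) (h1417 hG) (h1426 hG) (h1430 hG) (h1432 hG)
theorem h1439 : H1439 G := BG15C.S1439_core hG (h1355 hG) (h1438 hG h1421)
omit h1421 in
theorem h1437 : H1437 G :=
  BG15E.S1437_core hG (h1350 hG) (h1364 hG) (h1373 hG) (h1414 hG) (h1426 hG) (h1429 hG) (h1430 hG)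
theorem h1356 : H1356 G :=
  BG15F.S1356_core hG (h1350 hG) (h1351 hG) (h1352 hG) (h1355 hG) (h1364 hG) (h1365 hG) (h1373 hG)
    (h1420 hG) (h1426 hG) (h1429 hG) (h1430 hG) (h1438 hG h1421)

/-- The rows used by the analysis of the non-TI case. -/
theorem ntRows : BG15G.NTRows G where
  hG := hG
  I := inputs hG
  h1350 := h1350 hG
  h1351 := h1351 hG
  h1352 := h1352 hG
  h1355 := h1355 hG
  h1356 := h1356 hG h1421
  h1360 := h1360 hG h1421
  h1364 := h1364 hG
  h1365 := h1365 hG
  h1373 := h1373 hG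
  h1374 := h1374 hG
  h1375 := h1375 hG
  h1412 := h1412 hG
  h1416 := h1416 hG
  h1420 := h1420 hG
  h1422 := h1422 hG
  h1423 := h1423 hG
  h1426 := h1426 hG
  h1429 := h1429 hG
  h1430 := h1430 hG
  h1437 := h1437 hG
  h1439 := h1439 hG h1421

theorem h1357 : H1357 G := BG15G.S1357_core (ntRows hG h1421)
theorem h1440W : BG15I.H1440W G := BG15I.nonTI (ntRows hG h1421)
theorem h1372 : H1372 G := fun M hM K U hKU hK1 hU1 =>
  BGPT.S1372_core (pInp hG) (ntRows hG h1421) hM hKU hK1 hU1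
theorem h1363 : H1363 G := fun M hM K U hKU hK1 =>
  BGPT.S1363_core (pInp hG) (ntRows hG h1421) hM hKU hK1
theorem h1435 : H1435 G := fun M hM K U hKU hK1 hU1 Mstar hMstar hKst hKstH r _ hr Rr H hH hNR =>
  BGPT.S1435_core (pInp hG) (ntRows hG h1421) hM hKU hK1 hU1 hMstar hKst hKstH hr Rr hH hNR

/-- The rows used by the analysis of the support of `M_σ`. -/
theorem gRows : BGPart.GRows G where
  I := inputs hG
  hConj := hConj hG
  h1350 := h1350 hG
  h1351 := h1351 hG
  h1352 := h1352 hG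
  h1353 := h1353 hG
  h1363 := h1363 hG h1421
  h1365 := h1365 hG
  h1366 := h1366 hG
  h1367 := h1367 hG
  h1372 := h1372 hG h1421
  h1419 := h1419 hG
  h1423 := h1423 hG
  h1425 := h1425 hG
  h1429 := h1429 hG
  h1430 := h1430 hG
  h1432 := h1432 hG
  h1435 := h1435 hG h1421

theorem h1376 : H1376 G := fun M hM x hx hx1 hxM N hN hxN hkN =>
  BGPart.S1376_core (gRows hG h1421) M hM x hx hx1 hxM N hN hxN hkN
theorem h1436 : H1436 G := fun M hM x hx hx1 hxM N hN hxN =>
  BGPart.S1436_core (gRows hG h1421) M hM x hx hx1 hxM N hN hxN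

/-- The rows of Section 16. -/
theorem rows : BG16.Rows G where
  hG := hG
  h1350 := h1350 hG
  h1351 := h1351 hG
  h1352 := h1352 hG
  h1354 := h1354 hG
  h1355 := h1355 hG
  h1356 := h1356 hG h1421
  h1357 := h1357 hG h1421
  h1358 := Cfsg.Agent.S1358.result hG
  h1360 := h1360 hG h1421
  h1361 := h1361 hG h1421
  h1362 := Cfsg.Agent.S1362.result hG
  h1363 := h1363 hG h1421
  h1364 := h1364 hG
  h1365 := h1365 hG
  h1366 := h1366 hG
  h1368 := h1368 hG
  h1369 := h1369 hG
  h1370 := h1370 hG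
  h1372 := h1372 hG h1421
  h1440 := h1440W hG h1421

/-- The rows of the tame embedding. -/
theorem tRows : BG16.TRows G where
  toRows := rows hG h1421
  h1374 := h1374 hG
  h1375 := h1375 hG
  h1376 := h1376 hG h1421
  h1378 := h1378 hG
  h1430 := h1430 hG
  h1432 := h1432 hG
  h1436 := h1436 hG h1421
  h1438 := h1438 hG h1421

end Cfsg.Agent.Lib.OddOrder.BGAssemble
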