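import Mathlib
import Cfsg.Agent.Lib.OddOrder.BG14ZA
import Cfsg.Agent.Lib.OddOrder.BG14HP
import Cfsg.Agent.Lib.OddOrder.BG12Rows
import Cfsg.Agent.S1350
import Cfsg.Agent.S1404
import Cfsg.Agent.S1409
import Cfsg.Agent.S1415
import Cfsg.Agent.S1417
import Cfsg.Agent.S1418
import Cfsg.Agent.S1420
import Cfsg.Agent.S1423
import Cfsg.Agent.S1425
import Cfsg.Agent.S1426
import Cfsg.Agent.S1427

/-!
# Bender-Glauberman, Section 14: the rows `S1430`, `S1431`, `S1432` modulo `S1428`
-/

set_option autoImplicit false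

namespace Cfsg.Agent.Lib.OddOrder.BG14V

open Cfsg Subgroup
open Cfsg.Agent.Lib.OddOrder.BGRows
open Cfsg.Agent.Lib.OddOrder.BG14H

universe u

variable {G : Type u} [Group G] [Finite G]

/-- The inputs of Section 14, from the rows. -/
theorem whyps_of_rows (hG : IsMinSimpleOddOrder G) (h1428 : H1428 G) : WHyps G where
  I := Cfsg.Agent.Lib.OddOrder.BG12.inputs hG
  h1350 := fun M hM => Cfsg.Agent.S1350.result hG M hM
  h1404 := fun M hM p _ hp X hXp hX1 hXM => Cfsg.Agent.S1404.result hG M hM p hp X hXp hX1 hXM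
  h1420 := fun M hM E hE => Cfsg.Agent.S1420.result hG M hM E hE
  hA := claimA hG
  hP := thmP hG h1428
  h1409 := fun M hM p _ hp => Cfsg.Agent.S1409.result hG M hM p hp
  h1415 := fun M hM E hE => Cfsg.Agent.S1415.result hG M hM E hE
  h1417 := fun M hM p _ hp A hA => Cfsg.Agent.S1417.result hG M hM p hp A hA
  h1418 := fun M hM E hE p _ hp A hA => Cfsg.Agent.S1418.result hG M hM E hE p hp A hA
  h1423 := fun M hM p _ hp X hXM hX P h => Cfsg.Agent.S1423.result hG M hM p hp X hXM hX P h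
  h1426 := fun M hM E hE => Cfsg.Agent.S1426.result hG M hM E hE
  h1427 := fun M hM E hE p _ S hS1 hSc => Cfsg.Agent.S1427.result hG M hM E hE p S hS1 hSc
  h1428 := h1428
  hMix := mix hG h1428

theorem h1430_of (hG : IsMinSimpleOddOrder G) (h1428 : H1428 G) : H1430 G :=
  S1430_core (whyps_of_rows hG h1428)

theorem h1431_of (hG : IsMinSimpleOddOrder G) (h1428 : H1428 G) : H1431 G :=
  S1431_core (whyps_of_rows hG h1428) (fun M hM Y hY1 hY => Cfsg.Agent.S1425.result hG M hM Y hY1 hY)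

theorem h1432_of (hG : IsMinSimpleOddOrder G) (h1428 : H1428 G) : H1432 G :=
  S1432_core (whyps_of_rows hG h1428)

end Cfsg.Agent.Lib.OddOrder.BG14V
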