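import Mathlib
import Cfsg.Agent.Lib.OddOrder.BG10
import Cfsg.Agent.Lib.OddOrder.BG9
import Cfsg.Agent.Lib.Coprime.InvHall
import Cfsg.Agent.Lib.Coprime.GenerationE
import Cfsg.Agent.Lib.OddOrder.BG4E

/-!
# Bender-Glauberman, Section 9: uniqueness for `SCN₃`, without signalizer functors

The basic data: an abelian `p`-subgroup `A` satisfying the transitivity hypothesis with
`O_{p'}(C(A))` transitive on the maximal `A`-invariant `q`-subgroups, containing an elementary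
abelian subgroup `E` of order `p³`; and maximal subgroups `M ≥ A` whose Fitting subgroup has rank
at least 3 at a prime `s ≠ p`.
-/

set_option autoImplicit false
set_option linter.unusedSectionVars false

namespace Cfsg.Agent.Lib.OddOrder.BG9U

open Cfsg Subgroup Cfsg.Agent.Lib.OddOrder.Base Cfsg.Agent.Lib.OddOrder.BG10
open scoped commutatorElement

universe u

variable {G : Type u} [Group G] [Finite G]

/-- The statement of S1400. -/
def Hyp1400 (G : Type u) [Group G] : Prop :=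
  ∀ (p : ℕ) [Fact p.Prime] (A B : Subgroup G), IsPGroup p A → IsMulCommutative A →
    ¬ PRankLE p 2 ↥A → InUniqueMaximal A → IsPGroup p B → ¬ IsCyclic B →
    ¬ PRankLE p 2 ↥(centralizer (B : Set G)) → InUniqueMaximal B

/-- The statement of S1401. -/
def Hyp1401 (G : Type u) [Group G] : Prop :=
  ∀ (M : Subgroup G), IsCoatom M → ∀ (p : ℕ) [Fact p.Prime], ¬ PRankLE p 2 ↥(fittingOf M) →
    ∀ A : Subgroup G, IsPGroup p A → IsMulCommutative A → ¬ PRankLE p 2 ↥A → InUniqueMaximal A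

/-- `O_{π(A)'}(C(A))`. -/
abbrev KK (A : Subgroup G) : Subgroup G :=
  piCoreOf (primesNotDvd (Nat.card A)) (centralizer (A : Set G))

/-- `C(b)`. -/
abbrev CC (b : G) : Subgroup G := centralizer ({b} : Set G)

theorem KK_le (A : Subgroup G) : KK A ≤ centralizer (A : Set G) :=
  Cfsg.Agent.Lib.Coprime.TH.piCoreOf_le _ _

theorem mem_CC {a b : G} : a ∈ CC b ↔ b * a = a * b := by
  rw [CC, mem_centralizer_singleton_iff]
  exact eq_comm

/-- The fixed data. -/
structure Ctx (p : ℕ) (A E : Subgroup G) : Prop where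
  hG : IsMinSimpleOddOrder G
  hAp : IsPGroup p A
  hAc : ∀ a ∈ A, ∀ b ∈ A, a * b = b * a
  hTH : TransitivityHypothesis A
  htr : ∀ q : ℕ, q.Prime → ¬ q ∣ Nat.card A → ∀ Q₁ ∈ maxInvSubgroups ⊤ A {q},
    ∀ Q₂ ∈ maxInvSubgroups ⊤ A {q}, ∃ k ∈ KK A, Q₂ = Q₁.map (MulAut.conj k).toMonoidHom
  hEA : E ≤ A
  hEe : IsElementaryAbelian p E
  hEc : Nat.card E = p ^ 3
  h1400 : Hyp1400 G
  h1401 : Hyp1401 G

section generic

/-- A group all of whose prime divisors are `q` is a `q`-group. -/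
theorem isPGroup_of_primes {q : ℕ} [hq : Fact q.Prime] {Y : Subgroup G}
    (h : ∀ r : ℕ, r.Prime → r ∣ Nat.card Y → r ∈ ({q} : Set ℕ)) : IsPGroup q Y := by
  exact IsPGroup.of_card (Nat.eq_prime_pow_of_unique_prime_dvd (Nat.card_pos (α := Y)).ne'
    (p := q) (fun {r} hr hd => h r hr hd))

theorem primes_of_isPGroup {q : ℕ} [hq : Fact q.Prime] {Y : Subgroup G} (hY : IsPGroup q Y) :
    ∀ r : ℕ, r.Prime → r ∣ Nat.card Y → r ∈ ({q} : Set ℕ) := by
  intro r hr hd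
  obtain ⟨n, hn⟩ := IsPGroup.iff_card.mp hY
  rw [hn] at hd
  exact (Nat.prime_dvd_prime_iff_eq hr hq.out).mp (hr.dvd_of_dvd_pow hd)

theorem mem_inv_top {q : ℕ} [hq : Fact q.Prime] {A Y : Subgroup G} (hY : IsPGroup q Y)
    (hA : A ≤ normalizer (Y : Set G)) : Y ∈ invSubgroups ⊤ A {q} :=
  ⟨le_top, primes_of_isPGroup hY, hA⟩

theorem exists_maxInv_ge {q : ℕ} [hq : Fact q.Prime] {A R : Subgroup G} (hR : IsPGroup q R)
    (hA : A ≤ normalizer (R : Set G)) : ∃ Q ∈ maxInvSubgroups ⊤ A {q}, R ≤ Q := by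
  obtain ⟨Q, hRQ, hQ⟩ := (Set.toFinite (invSubgroups (⊤ : Subgroup G) A {q})).exists_le_maximal
    (mem_inv_top hR hA)
  exact ⟨Q, ⟨hQ.prop, fun R' hR' hQR' => le_antisymm (hQ.le_of_ge hR' hQR') hQR'⟩, hRQ⟩

theorem isPGroup_of_maxInv {q : ℕ} [hq : Fact q.Prime] {A Q : Subgroup G}
    (hQ : Q ∈ maxInvSubgroups ⊤ A {q}) : IsPGroup q Q :=
  isPGroup_of_primes hQ.1.2.1

theorem normalizer_of_maxInv {q : ℕ} {A Q : Subgroup G}
    (hQ : Q ∈ maxInvSubgroups ⊤ A {q}) : A ≤ normalizer (Q : Set G) := hQ.1.2.2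

/-- Conjugation by an element centralizing `A` preserves `A`-invariance. -/
theorem inv_map_cj {A R : Subgroup G} (hA : A ≤ normalizer (R : Set G)) {k : G}
    (hk : k ∈ centralizer (A : Set G)) : A ≤ normalizer ((R.map (cj k) : Subgroup G) : Set G) := by
  intro a ha
  apply mem_normalizer_of_map_cj
  have hak : a * k = k * a := (mem_centralizer_iff.mp hk a ha)
  rw [map_cj_cj, hak, ← map_cj_cj, map_cj_eq_of_mem (hA ha)]

/-- Conjugates by elements of `C(b)` stay in `C(b)`. -/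
theorem map_cj_le_CC {R : Subgroup G} {b k : G} (hR : R ≤ CC b) (hk : k ∈ CC b) :
    R.map (cj k) ≤ CC b := by
  rintro _ ⟨x, hx, rfl⟩
  exact mul_mem (mul_mem hk (hR hx)) (inv_mem hk)

theorem isPGroup_map_cj {q : ℕ} {R : Subgroup G} (hR : IsPGroup q R) (k : G) :
    IsPGroup q (R.map (cj k)) := hR.map _

theorem inf_centralizer_inv {A D H : Subgroup G} (hAc : ∀ a ∈ A, ∀ b ∈ A, a * b = b * a)
    (hHA : H ≤ A) (hAD : A ≤ normalizer (D : Set G)) :
    A ≤ normalizer ((D ⊓ centralizer (H : Set G) : Subgroup G) : Set G) := by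
  intro a ha
  have h1 : a ∈ centralizer (H : Set G) := by
    rw [mem_centralizer_iff]
    intro h hh
    exact hAc h (hHA hh) a ha
  exact Cfsg.Agent.Lib.Coprime.Three.inf_mem_normalizer (hAD ha) (le_normalizer h1)

theorem inf_CC_inv {A D : Subgroup G} {b : G} (hAc : ∀ a ∈ A, ∀ b ∈ A, a * b = b * a)
    (hb : b ∈ A) (hAD : A ≤ normalizer (D : Set G)) :
    A ≤ normalizer ((D ⊓ CC b : Subgroup G) : Set G) := by
  intro a ha
  have h1 : a ∈ CC b := mem_CC.mpr (hAc b hb a ha)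
  exact Cfsg.Agent.Lib.Coprime.Three.inf_mem_normalizer (hAD ha) (le_normalizer h1)

/-- Two subgroups of index at most `p` of a group of order `p³` meet nontrivially. -/
theorem exists_mem_inf {p : ℕ} [hp : Fact p.Prime] {E B B' : Subgroup G}
    (hEc : Nat.card E = p ^ 3) (hB : B.relIndex E ≤ p) (hB' : B'.relIndex E ≤ p) :
    ∃ b ∈ B ⊓ B', b ≠ 1 := by
  by_contra hcon
  push Not at hcon
  have hbot : B ⊓ B' = ⊥ := by
    rw [eq_bot_iff]
    intro x hx
    exact mem_bot.mpr (hcon x hx)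
  have h1 : (B ⊓ B').relIndex E ≤ B.relIndex E * B'.relIndex E := Subgroup.relIndex_inf_le
  rw [hbot, relIndex_bot_left, hEc] at h1
  have h2 : B.relIndex E * B'.relIndex E ≤ p * p := Nat.mul_le_mul hB hB'
  have h3 : p * p < p ^ 3 := by
    have := hp.out.one_lt
    rw [pow_succ, sq]
    exact lt_mul_of_one_lt_right (by positivity) this
  omega

/-- Hyperplane centralizers generate. -/
theorem le_of_hyperplanes {p : ℕ} [hp : Fact p.Prime] {E T M : Subgroup G}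
    (hEe : IsElementaryAbelian p E) (hT : ¬ p ∣ Nat.card T) (hET : E ≤ normalizer (T : Set G))
    (h : ∀ B : Subgroup G, B ≤ E → B.relIndex E ≤ p → T ⊓ centralizer (B : Set G) ≤ M) : T ≤ M := by
  refine (Cfsg.Agent.Lib.Coprime.GenerationE.le_iSup_relIndex_le E T hEe hT hET).trans ?_
  exact iSup_le fun B => h B.1 B.2.1 B.2.2

/-- Nontrivial `s`-subgroups have a subgroup of order `s`. -/
theorem exists_card_eq_prime {s : ℕ} [hs : Fact s.Prime] {W : Subgroup G} (hW : IsPGroup s W)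
    (h1 : W ≠ ⊥) : ∃ V : Subgroup G, V ≤ W ∧ Nat.card V = s := by
  have hd : s ^ 1 ∣ Nat.card W := by
    rw [pow_one]
    obtain ⟨n, hn⟩ := IsPGroup.iff_card.mp hW
    rw [hn]
    refine dvd_pow_self s ?_
    rintro rfl
    apply h1
    rw [pow_zero] at hn
    exact (Subgroup.card_eq_one).mp hn
  obtain ⟨K, hK⟩ := Sylow.exists_subgroup_card_pow_prime (G := W) s hd
  refine ⟨K.map W.subtype, map_subtype_le K, ?_⟩
  rw [Subgroup.card_map_of_injective W.subtype_injective, hK, pow_one]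

/-- A subgroup of prime order is generated by any nontrivial element. -/
theorem eq_zpowers_of_card_eq_prime {s : ℕ} [hs : Fact s.Prime] {V : Subgroup G}
    (hVc : Nat.card V = s) {v : G} (hv : v ∈ V) (hv1 : v ≠ 1) : zpowers v = V := by
  apply Subgroup.eq_of_le_of_card_ge (zpowers_le.mpr hv)
  have h1 : v ^ s = 1 := by
    have := pow_card_eq_one' (x := (⟨v, hv⟩ : V))
    rw [hVc] at this
    exact congrArg Subtype.val this
  rw [Nat.card_zpowers, hVc, orderOf_eq_prime h1 hv1]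

theorem exists_ne_one_of_card_eq_prime {s : ℕ} [hs : Fact s.Prime] {V : Subgroup G}
    (hVc : Nat.card V = s) : ∃ v ∈ V, v ≠ 1 := by
  have h1 : V ≠ ⊥ := by
    rintro rfl
    rw [Subgroup.card_bot] at hVc
    exact hs.out.ne_one hVc.symm
  obtain ⟨x, hx⟩ := Subgroup.ne_bot_iff_exists_ne_one.mp h1
  exact ⟨x, x.2, fun h => hx (Subtype.ext h)⟩

/-- Two subgroups of prime order in a cyclic subgroup are equal. -/
theorem eq_of_card_eq_prime_of_isCyclic {s : ℕ} [hs : Fact s.Prime] {C V V' : Subgroup G}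
    (hC : IsCyclic C) (hV : V ≤ C) (hV' : V' ≤ C) (hVc : Nat.card V = s)
    (hVc' : Nat.card V' = s) : V = V' := by
  have hu : Cfsg.Agent.Lib.PGroup.CyclicMax2.UniqueP s C :=
    Cfsg.Agent.Lib.PGroup.CyclicMax2.uniqueP_of_isCyclic
  obtain ⟨v, hv, hv1⟩ := exists_ne_one_of_card_eq_prime hVc
  obtain ⟨v', hv', hv1'⟩ := exists_ne_one_of_card_eq_prime hVc'
  have hpow : ∀ {W : Subgroup G}, Nat.card W = s → ∀ w ∈ W, w ^ s = 1 := by
    intro W hW w hw
    have := pow_card_eq_one' (x := (⟨w, hw⟩ : W))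
    rw [hW] at this
    exact congrArg Subtype.val this
  have h1 := hu ⟨v, hV hv⟩ ⟨v', hV' hv'⟩ (Subtype.ext (hpow hVc v hv)) (Subtype.ext (hpow hVc' v' hv'))
    (fun h => hv1 (congrArg Subtype.val h)) (fun h => hv1' (congrArg Subtype.val h))
  obtain ⟨i, hi⟩ := h1
  have h2 : v ∈ V' := by
    have h3 := congrArg Subtype.val hi
    simp only [SubgroupClass.coe_zpow] at h3
    rw [← h3]
    exact zpow_mem hv' i
  rw [← eq_zpowers_of_card_eq_prime hVc hv hv1, eq_zpowers_of_card_eq_prime hVc' h2 hv1]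

/-- In a cyclic `s`-subgroup, a subgroup of order `s` lies in every nontrivial subgroup. -/
theorem le_of_isCyclic {s : ℕ} [hs : Fact s.Prime] {C V W : Subgroup G} (hC : IsCyclic C)
    (hCp : IsPGroup s C) (hV : V ≤ C) (hVc : Nat.card V = s) (hW : W ≤ C) (hW1 : W ≠ ⊥) : V ≤ W := by
  have hWp : IsPGroup s W := hCp.to_le hW
  obtain ⟨V', hV'W, hV'c⟩ := exists_card_eq_prime hWp hW1
  rw [eq_of_card_eq_prime_of_isCyclic hC hV (hV'W.trans hW) hVc hV'c]
  exact hV'W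

end generic

section ctx

variable {p : ℕ} [hp : Fact p.Prime] {A E : Subgroup G}

theorem Ctx.not_dvd (c : Ctx p A E) {q : ℕ} (hq : q.Prime) (hqp : q ≠ p) : ¬ q ∣ Nat.card A := by
  intro hd
  obtain ⟨n, hn⟩ := IsPGroup.iff_card.mp c.hAp
  rw [hn] at hd
  exact hqp ((Nat.prime_dvd_prime_iff_eq hq hp.out).mp (hq.dvd_of_dvd_pow hd))

theorem Ctx.E_le_normalizer (c : Ctx p A E) {T : Subgroup G} (h : A ≤ normalizer (T : Set G)) :
    E ≤ normalizer (T : Set G) := c.hEA.trans h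

theorem Ctx.dvd_card (c : Ctx p A E) : p ∣ Nat.card A := by
  have h1 := Subgroup.card_dvd_of_le c.hEA
  rw [c.hEc] at h1
  exact (dvd_pow_self p (by norm_num)).trans h1

theorem Ctx.A_ne_bot (c : Ctx p A E) : A ≠ ⊥ := c.hTH.1

theorem Ctx.A_le_CC (c : Ctx p A E) {b : G} (hb : b ∈ A) : A ≤ CC b :=
  fun a ha => mem_CC.mpr (c.hAc b hb a ha)

theorem Ctx.KK_le_CC (_c : Ctx p A E) {b : G} (hb : b ∈ A) : KK A ≤ CC b := fun _ hk =>
  mem_CC.mpr (mem_centralizer_iff.mp (KK_le A hk) b hb)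

theorem Ctx.CC_ne_top (c : Ctx p A E) {b : G} (hb : b ≠ 1) : CC b ≠ ⊤ :=
  centralizer_singleton_ne_top c.hG hb

theorem Ctx.conj_le (c : Ctx p A E) {q : ℕ} [hq : Fact q.Prime] (hqp : q ≠ p) {Q₀ R : Subgroup G}
    (hQ₀ : Q₀ ∈ maxInvSubgroups ⊤ A {q}) (hR : IsPGroup q R) (hAR : A ≤ normalizer (R : Set G)) :
    ∃ k ∈ KK A, R.map (cj k) ≤ Q₀ := by
  obtain ⟨S, hS, hRS⟩ := exists_maxInv_ge hR hAR
  obtain ⟨k, hk, hkeq⟩ := c.htr q hq.out (c.not_dvd hq.out hqp) S hS Q₀ hQ₀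
  refine ⟨k, hk, ?_⟩
  rw [hkeq]
  exact map_mono hRS

/-- TH: an `A`-invariant `p'`-subgroup of a proper overgroup of `A`. -/
theorem Ctx.le_core (c : Ctx p A E) {X Y : Subgroup G} (hX : X ≠ ⊤) (hAX : A ≤ X) (hYX : Y ≤ X)
    (hYc : (Nat.card Y).Coprime p) (hAY : A ≤ normalizer (Y : Set G)) :
    Y ≤ piCoreOf (primesNotDvd (Nat.card A)) X := by
  refine Cfsg.Agent.Lib.Coprime.TH.le_piCoreOf_of_TH c.hTH hX hAX ⟨hYX, ?_, hAY⟩
  intro r hr hd
  refine ⟨hr, c.not_dvd hr ?_⟩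
  rintro rfl
  exact Nat.Prime.not_coprime_iff_dvd.mpr ⟨r, hr, hd, dvd_rfl⟩ hYc

end ctx

end Cfsg.Agent.Lib.OddOrder.BG9U
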