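import Mathlib
import Cfsg.Agent.Lib.OddOrder.BG9UBase

/-!
# Bender-Glauberman, Section 9: maximal subgroups with large Fitting subgroup
-/

set_option autoImplicit false
set_option linter.unusedSectionVars false

namespace Cfsg.Agent.Lib.OddOrder.BG9U

open Cfsg Subgroup Cfsg.Agent.Lib.OddOrder.Base Cfsg.Agent.Lib.OddOrder.BG10
open Cfsg.Agent.Lib.Basic.PCore
open Cfsg.Agent.Lib.Components.PComponent (conjRestrict)
open scoped commutatorElement

universe u

variable {G : Type u} [Group G] [Finite G]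

section elem

variable {s : ℕ} [hs : Fact s.Prime]

theorem elem_map_subtype {T : Subgroup G} {N : Subgroup T} (h : IsElementaryAbelian s N) :
    IsElementaryAbelian s (N.map T.subtype) := by
  have h' := Cfsg.Agent.Lib.PGroup.Basic.isElementaryAbelian_iff.mp h
  rw [Cfsg.Agent.Lib.PGroup.Basic.isElementaryAbelian_iff]
  constructor
  · rintro _ ⟨a, ha, rfl⟩ _ ⟨b, hb, rfl⟩
    exact congrArg Subtype.val (h'.1 a ha b hb)
  · rintro _ ⟨a, ha, rfl⟩
    exact congrArg Subtype.val (h'.2 a ha)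

theorem elem_subgroupOf {T B : Subgroup G} (h : IsElementaryAbelian s B) :
    IsElementaryAbelian s (B.subgroupOf T) := by
  have h' := Cfsg.Agent.Lib.PGroup.Basic.isElementaryAbelian_iff.mp h
  rw [Cfsg.Agent.Lib.PGroup.Basic.isElementaryAbelian_iff]
  constructor
  · intro a ha b hb
    exact Subtype.ext (h'.1 _ (mem_subgroupOf.mp ha) _ (mem_subgroupOf.mp hb))
  · intro a ha
    exact Subtype.ext (by simpa using h'.2 _ (mem_subgroupOf.mp ha))

theorem card_subgroupOf_eq {T B : Subgroup G} (h : B ≤ T) :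
    Nat.card (B.subgroupOf T) = Nat.card B :=
  Nat.card_congr (subgroupOfEquivOfLe h).toEquiv

theorem prankLE_coe_iff {k : ℕ} {T : Subgroup G} :
    PRankLE s k ↥T ↔ ∀ B : Subgroup G, B ≤ T → IsElementaryAbelian s B → Nat.card B ≤ s ^ k :=
  prankLE_subgroup_iff

/-- A subgroup containing an elementary abelian subgroup of order bigger than `s` is not cyclic. -/
theorem not_isCyclic_of_elem {T B : Subgroup G} (hBT : B ≤ T) (hB : IsElementaryAbelian s B)
    (hc : s < Nat.card B) : ¬ IsCyclic T := by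
  intro hcyc
  have hB' := Cfsg.Agent.Lib.PGroup.Basic.isElementaryAbelian_iff.mp hB
  have hB1 : B ≠ ⊥ := by
    rintro rfl
    rw [Subgroup.card_bot] at hc
    exact absurd hc (by have := hs.out.pos; omega)
  obtain ⟨x, hx⟩ := Subgroup.ne_bot_iff_exists_ne_one.mp hB1
  have hx1 : (x : G) ≠ 1 := fun h => hx (Subtype.ext h)
  have hxo : orderOf (x : G) = s := orderOf_eq_prime (hB'.2 x x.2) hx1
  have hle : B ≤ zpowers (x : G) := by
    intro y hy
    by_cases hy1 : y = 1
    · rw [hy1]; exact one_mem _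
    have hyo : orderOf y = s := orderOf_eq_prime (hB'.2 y hy) hy1
    have heq := eq_of_card_eq_prime_of_isCyclic (s := s) hcyc
      (V := zpowers y) (V' := zpowers (x : G))
      (zpowers_le.mpr (hBT hy)) (zpowers_le.mpr (hBT x.2))
      (by rw [Nat.card_zpowers, hyo]) (by rw [Nat.card_zpowers, hxo])
    rw [← heq]
    exact mem_zpowers y
  have := Subgroup.card_le_of_le hle
  rw [Nat.card_zpowers, hxo] at this
  omega

/-- A noncyclic `s`-group for odd `s` has rank at least two. -/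
theorem not_prankLE_one_of_not_isCyclic (hs2 : s ≠ 2) {L : Subgroup G} (hLp : IsPGroup s L)
    (hL : ¬ IsCyclic L) : ¬ PRankLE s 1 L := fun h => hL (isCyclic_of_prankLE_one hs2 hLp h)

/-- The centralizer of a normal `E_{s²}` of an `s`-subgroup of rank at least three has rank at
least three. -/
theorem not_prankLE_centralizer_of_normal (hs2 : s ≠ 2) {T : Subgroup G} (hTp : IsPGroup s T)
    (hTr : ¬ PRankLE s 2 T) (N : Subgroup T) [hN : N.Normal] (hNe : IsElementaryAbelian s N)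
    (hNc : Nat.card N = s ^ 2) : ¬ PRankLE s 2 ↥(centralizer ((N.map T.subtype : Subgroup G) : Set G)) := by
  obtain ⟨A, hNA, -, hAC, hAr⟩ := Cfsg.Agent.Lib.PGroup.RankThree.exists_scn_three hs2 hTp hTr N hNe hNc
  obtain ⟨D, hDA, hDe, hDc⟩ := exists_of_not_prankLE_subgroup hAr
  refine not_prankLE_subgroup_of (A := D.map T.subtype) ?_ (elem_map_subtype hDe) ?_
  · rintro _ ⟨d, hd, rfl⟩
    rw [mem_centralizer_iff]
    rintro _ ⟨w, hw, rfl⟩
    have h1 : d ∈ centralizer (A : Set T) := by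
      rw [hAC]
      exact hDA hd
    exact congrArg Subtype.val (mem_centralizer_iff.mp h1 w (hNA hw))
  · rw [Subgroup.card_map_of_injective T.subtype_injective]
    exact hDc

/-- An element of order prime to `s` normalizing `S` and centralizing a maximal `E_{s²}` of `S`
centralizes `W = Ω₁(Z₂(S))`. -/
theorem exists_W (hs2 : s ≠ 2) {S B : Subgroup G} (hSp : IsPGroup s S) (hSr : ¬ PRankLE s 2 S)
    (hBS : B ≤ S) (hBe : IsElementaryAbelian s B) (hBc : Nat.card B = s ^ 2)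
    (hCB : PRankLE s 2 ↥(centralizer (B : Set G))) {x : G} (hxN : x ∈ normalizer (S : Set G))
    (hxB : B ≤ CC x) (hcop : (orderOf x).Coprime s) :
    ∃ W : Subgroup G, W ≤ S ∧ W ≤ CC x ∧ IsElementaryAbelian s W ∧ Nat.card W = s ^ 2 ∧
      ¬ PRankLE s 2 ↥(centralizer (W : Set G)) := by
  have hEe : IsElementaryAbelian s (B.subgroupOf S) := elem_subgroupOf hBe
  have hEc : Nat.card (B.subgroupOf S) = s ^ 2 := by rw [card_subgroupOf_eq hBS, hBc]
  have hEmax : ∀ B' : Subgroup S, IsElementaryAbelian s B' → B.subgroupOf S ≤ B' →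
      B' = B.subgroupOf S := by
    intro B' hB' hle
    have hmapE : IsElementaryAbelian s (B'.map S.subtype) := elem_map_subtype hB'
    have hBmap : B ≤ B'.map S.subtype := by
      intro b hb
      exact ⟨⟨b, hBS hb⟩, hle (mem_subgroupOf.mpr hb), rfl⟩
    have hmapC : B'.map S.subtype ≤ centralizer (B : Set G) := by
      intro y hy
      rw [mem_centralizer_iff]
      intro b hb
      exact (Cfsg.Agent.Lib.PGroup.Basic.isElementaryAbelian_iff.mp hmapE).1 b (hBmap hb) y hy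
    have hcard := prankLE_subgroup_iff.mp hCB _ hmapC hmapE
    rw [Subgroup.card_map_of_injective S.subtype_injective] at hcard
    refine (Subgroup.eq_of_le_of_card_ge hle ?_).symm
    rw [hEc]
    exact hcard
  have hfix : ∀ w ∈ omegaZ2 s S, x * (w : G) * x⁻¹ = w := by
    intro w hw
    have hφE : ∀ e ∈ B.subgroupOf S, (conjRestrict S x hxN) e = e := by
      intro e he
      apply Subtype.ext
      show x * (e : G) * x⁻¹ = e
      rw [mul_inv_eq_iff_eq_mul]
      exact (mem_CC.mp (hxB (mem_subgroupOf.mp he))).symm ▸ rfl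
    have hn : (conjRestrict S x hxN) ^ (orderOf x) = 1 := by
      ext y
      rw [conjRestrict_pow_apply, pow_orderOf_eq_one]
      simp
    have := fixes_omegaZ2 hs2 hSp hSr _ hEe hEc hEmax _ hφE hn hcop w hw
    exact congrArg Subtype.val this
  obtain ⟨-, -, ⟨h3a, h3b⟩, -, -⟩ := Cfsg.Agent.S1453.result s hs2 hSp hSr _ hEe hEc hEmax
  haveI : (omegaZ2 s S).Normal := omegaZ2_normal
  refine ⟨(omegaZ2 s S).map S.subtype, map_subtype_le _, ?_, elem_map_subtype h3a, ?_,
    not_prankLE_centralizer_of_normal hs2 hSp hSr _ h3a h3b⟩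
  · rintro _ ⟨w, hw, rfl⟩
    have := hfix w hw
    rw [mul_inv_eq_iff_eq_mul] at this
    exact mem_CC.mpr this
  · rw [Subgroup.card_map_of_injective S.subtype_injective, h3b]

end elem

section big

variable {p : ℕ} [hp : Fact p.Prime] {A E M : Subgroup G} {s : ℕ} [hs : Fact s.Prime]

/-- `O_s(M)`, in `G`. -/
abbrev UU (s : ℕ) (M : Subgroup G) : Subgroup G := piCoreOf {s} M

theorem UU_le : UU s M ≤ M := Cfsg.Agent.Lib.Coprime.TH.piCoreOf_le _ _

theorem isPGroup_UU : IsPGroup s (UU s M) :=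
  isPGroup_of_primes (Cfsg.Agent.Lib.Coprime.TH.isPi_piCoreOf {s} M)

theorem le_normalizer_UU : M ≤ normalizer (UU s M : Set G) := fun _ hm =>
  Cfsg.Agent.Lib.Coprime.TH.mem_normalizer_piCoreOf {s} M (le_normalizer hm)

/-- `M ≥ A` is maximal with `r_s(F(M)) ≥ 3`, where `s ≠ p`. -/
structure Big (p : ℕ) (A M : Subgroup G) (s : ℕ) : Prop where
  hM : IsCoatom M
  hAM : A ≤ M
  hsp : s ≠ p
  hr : ¬ PRankLE s 2 ↥(fittingOf M)

/-- An elementary abelian subgroup of order at least `s³` in `O_s(M)`. -/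
structure IsE0 (s : ℕ) (M E₀ : Subgroup G) : Prop where
  le : E₀ ≤ UU s M
  elem : IsElementaryAbelian s E₀
  card : s ^ 2 < Nat.card E₀

theorem IsE0.isPGroup {E₀ : Subgroup G} (h : IsE0 s M E₀) : IsPGroup s E₀ :=
  isPGroup_of_isElementaryAbelian h.elem

theorem IsE0.le_M {E₀ : Subgroup G} (h : IsE0 s M E₀) : E₀ ≤ M := h.le.trans UU_le

theorem IsE0.not_prankLE {E₀ : Subgroup G} (h : IsE0 s M E₀) : ¬ PRankLE s 2 E₀ :=
  not_prankLE_subgroup_of le_rfl h.elem h.card

theorem IsE0.not_prankLE_of_le {E₀ T : Subgroup G} (h : IsE0 s M E₀) (hT : E₀ ≤ T) :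
    ¬ PRankLE s 2 T :=
  not_prankLE_subgroup_of hT h.elem h.card

theorem Big.exists_E0 (hB : Big p A M s) : ∃ E₀ : Subgroup G, IsE0 s M E₀ := by
  obtain ⟨E₀, hE₀F, hE, hc⟩ := exists_of_not_prankLE_subgroup hB.hr
  refine ⟨E₀, ?_, hE, hc⟩
  intro x hx
  obtain ⟨y, hy, rfl⟩ := hE₀F hx
  have hxp : (y : G) ^ s = 1 := hE.2 _ hx
  have hyp : y ^ s = 1 := Subtype.ext hxp
  have hd : orderOf y ∣ s ^ 1 := by
    rw [pow_one]
    exact orderOf_dvd_of_pow_eq_one hyp
  obtain ⟨k, -, hk⟩ := (Nat.dvd_prime_pow hs.out).mp hd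
  have h1 : y ∈ pCore s M := mem_pCore_of_normal_nilpotent inferInstance
    fittingSubgroup_isNilpotent hy hs.out hk
  exact ⟨y, Cfsg.Agent.Lib.OddOrder.BG10.pCore_le_piCore {s} rfl h1, rfl⟩

theorem Ctx.two_ne (c : Ctx p A E) {E₀ : Subgroup G} (h : IsE0 s M E₀) : s ≠ 2 := by
  apply prime_odd_of_subgroup c.hG (H := E₀)
  have h1 : s ∣ Nat.card E₀ := by
    obtain ⟨n, hn⟩ := IsPGroup.iff_card.mp h.isPGroup
    have hc := h.card
    rw [hn] at hc ⊢
    refine dvd_pow_self s ?_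
    rintro rfl
    have h3 : 1 < s ^ 2 := Nat.one_lt_pow (by norm_num) hs.out.one_lt
    rw [pow_zero] at hc
    omega
  exact h1

/-- `E₀` lies in `M` only, by S1401. -/
theorem Ctx.uniq_E0 (c : Ctx p A E) (hB : Big p A M s) {E₀ : Subgroup G} (h : IsE0 s M E₀) :
    ∀ L : Subgroup G, IsCoatom L → E₀ ≤ L → L = M := by
  have hU := c.h1401 M hB.hM s hB.hr E₀ h.isPGroup h.elem.1 h.not_prankLE
  obtain ⟨L₀, hL₀, hE₀L₀, hu⟩ := inUniqueMaximal_iff.mp hU
  intro L hL hEL
  rw [hu L hL hEL, hu M hB.hM h.le_M]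

/-- A subgroup of `M` which lies in a unique maximal subgroup lies in `M` only. -/
theorem uniq_of_le {L X : Subgroup G} (hM : IsCoatom M) (hU : InUniqueMaximal L) (hLM : L ≤ M)
    (hX : IsCoatom X) (hLX : L ≤ X) : X = M := by
  obtain ⟨L₀, hL₀, hE₀L₀, hu⟩ := inUniqueMaximal_iff.mp hU
  rw [hu X hX hLX, hu M hM hLM]

theorem le_M_of_unique {L X : Subgroup G} (hM : IsCoatom M) (hU : InUniqueMaximal L) (hLM : L ≤ M)
    (hLX : L ≤ X) (hX : X ≠ ⊤) : X ≤ M :=
  le_of_unique (fun _ hL hle => uniq_of_le hM hU hLM hL hle) hLX hX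

/-- Normal `E_{s²}`-subgroups of `s`-subgroups of rank at least 3 are uniqueness subgroups. -/
theorem Ctx.unique_of_normal (c : Ctx p A E) (hB : Big p A M s) {E₀ : Subgroup G}
    (h : IsE0 s M E₀) {T : Subgroup G} (hTp : IsPGroup s T) (hTr : ¬ PRankLE s 2 T) (N : Subgroup T)
    [hN : N.Normal] (hNe : IsElementaryAbelian s N) (hNc : Nat.card N = s ^ 2) :
    InUniqueMaximal (N.map T.subtype) := by
  have hs2 := c.two_ne h
  have hU := c.h1401 M hB.hM s hB.hr E₀ h.isPGroup h.elem.1 h.not_prankLE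
  refine c.h1400 s E₀ _ h.isPGroup h.elem.1 h.not_prankLE hU
    (isPGroup_of_isElementaryAbelian (elem_map_subtype hNe)) ?_
    (not_prankLE_centralizer_of_normal hs2 hTp hTr N hNe hNc)
  refine not_isCyclic_of_elem le_rfl (elem_map_subtype hNe) ?_
  rw [Subgroup.card_map_of_injective T.subtype_injective, hNc]
  exact lt_self_pow₀ hs.out.one_lt (by norm_num)

/-- An `s`-subgroup containing `E₀` lies in `M`. -/
theorem Ctx.le_of_ge_E0 (c : Ctx p A E) (hB : Big p A M s) {E₀ : Subgroup G} (h : IsE0 s M E₀)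
    {T : Subgroup G} (hTp : IsPGroup s T) (hE₀T : E₀ ≤ T) : T ≤ M := by
  have hs2 := c.two_ne h
  have hTr := h.not_prankLE_of_le hE₀T
  have hnc : ¬ IsCyclic (⊤ : Subgroup T) := by
    intro hcyc
    have hT : IsCyclic T := isCyclic_of_surjective (Subgroup.topEquiv (G := T)).toMonoidHom
      (Subgroup.topEquiv (G := T)).surjective
    refine not_isCyclic_of_elem hE₀T h.elem ?_ hT
    exact lt_trans (lt_self_pow₀ hs.out.one_lt (by norm_num)) h.card
  obtain ⟨N, -, hNn, hNe, hNc⟩ := Cfsg.Agent.Lib.PGroup.NormalRank.exists_normal_rank_two hs2 hTp ⊤ hnc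
  haveI := hNn
  have hU := c.unique_of_normal hB h hTp hTr N hNe hNc
  obtain ⟨L, hL, hNL, hu⟩ := inUniqueMaximal_iff.mp hU
  have hN1 : N.map T.subtype ≠ ⊥ := by
    intro he
    have : Nat.card (N.map T.subtype) = s ^ 2 := by
      rw [Subgroup.card_map_of_injective T.subtype_injective, hNc]
    rw [he, Subgroup.card_bot] at this
    have h2 : 1 < s ^ 2 := Nat.one_lt_pow (by norm_num) hs.out.one_lt
    omega
  have hTN : T ≤ normalizer ((N.map T.subtype : Subgroup G) : Set G) := by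
    intro t ht
    rw [mem_set_normalizer_iff]
    intro x
    simp only [SetLike.mem_coe]
    constructor
    · rintro ⟨y, hy, rfl⟩
      exact ⟨⟨t, ht⟩ * y * (⟨t, ht⟩ : T)⁻¹, hNn.conj_mem y hy _, by simp⟩
    · rintro ⟨y, hy, hye⟩
      refine ⟨(⟨t, ht⟩ : T)⁻¹ * y * (⟨t, ht⟩ : T), ?_, ?_⟩
      · have := hNn.conj_mem y hy (⟨t, ht⟩ : T)⁻¹
        simpa using this
      · simp only [Subgroup.coe_subtype, Subgroup.coe_mul, Subgroup.coe_inv] at hye ⊢
        rw [hye]
        group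
  have hNtop : N.map T.subtype ≠ ⊤ :=
    pgroup_ne_top c.hG (isPGroup_of_isElementaryAbelian (elem_map_subtype hNe))
  have hTL : T ≤ L := hTN.trans (le_of_unique hu le_normalizer (normalizer_ne_top c.hG hN1 hNtop))
  have hLM : L = M := c.uniq_E0 hB h L hL (hE₀T.trans hTL)
  exact hLM ▸ hTL

/-- **(B2)** An element of order prime to `s` normalizing an `s`-subgroup `S ≥ E₀` and centralizing a
noncyclic subgroup of `S` has its centralizer in `M`. -/
theorem Ctx.CC_le_of_noncyclic (c : Ctx p A E) (hB : Big p A M s) {E₀ : Subgroup G}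
    (h : IsE0 s M E₀) {S : Subgroup G} (hSp : IsPGroup s S) (hE₀S : E₀ ≤ S) {b : G} (hb1 : b ≠ 1)
    (hbN : b ∈ normalizer (S : Set G)) (hcop : (orderOf b).Coprime s) {L : Subgroup G}
    (hLS : L ≤ S) (hLb : L ≤ CC b) (hLc : ¬ IsCyclic L) : CC b ≤ M := by
  have hs2 := c.two_ne h
  have hSr := h.not_prankLE_of_le hE₀S
  have hSM := c.le_of_ge_E0 hB h hSp hE₀S
  have hU := c.h1401 M hB.hM s hB.hr E₀ h.isPGroup h.elem.1 h.not_prankLE
  have hCb : CC b ≠ ⊤ := centralizer_singleton_ne_top c.hG hb1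
  obtain ⟨B, hBL, hBe, hBc⟩ := exists_E2 (not_prankLE_one_of_not_isCyclic hs2 (hSp.to_le hLS) hLc)
  have hBnc : ¬ IsCyclic B := by
    refine not_isCyclic_of_elem le_rfl hBe ?_
    rw [hBc]
    exact lt_self_pow₀ hs.out.one_lt (by norm_num)
  by_cases hCB : PRankLE s 2 ↥(centralizer (B : Set G))
  · obtain ⟨W, hWS, hWb, hWe, hWc, hWr⟩ := exists_W hs2 hSp hSr (hBL.trans hLS) hBe hBc hCB hbN
      (hBL.trans hLb) hcop
    have hWnc : ¬ IsCyclic W := by
      refine not_isCyclic_of_elem le_rfl hWe ?_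
      rw [hWc]
      exact lt_self_pow₀ hs.out.one_lt (by norm_num)
    have hUW := c.h1400 s E₀ W h.isPGroup h.elem.1 h.not_prankLE hU
      (isPGroup_of_isElementaryAbelian hWe) hWnc hWr
    exact le_M_of_unique hB.hM hUW (hWS.trans hSM) hWb hCb
  · have hUB := c.h1400 s E₀ B h.isPGroup h.elem.1 h.not_prankLE hU
      (isPGroup_of_isElementaryAbelian hBe) hBnc hCB
    exact le_M_of_unique hB.hM hUB (hBL.trans (hLS.trans hSM)) (hBL.trans hLb) hCb

/-- `S*`: a maximal `A`-invariant `s`-subgroup containing `O_s(M)`, it lies in `M`. -/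
theorem Ctx.exists_Sstar (c : Ctx p A E) (hB : Big p A M s) {E₀ : Subgroup G} (h : IsE0 s M E₀) :
    ∃ S ∈ maxInvSubgroups ⊤ A {s}, UU s M ≤ S ∧ S ≤ M := by
  have hAU : A ≤ normalizer (UU s M : Set G) := hB.hAM.trans le_normalizer_UU
  obtain ⟨S, hS, hUS⟩ := exists_maxInv_ge (isPGroup_UU (s := s) (M := M)) hAU
  exact ⟨S, hS, hUS, c.le_of_ge_E0 hB h (isPGroup_of_maxInv hS) (h.le.trans hUS)⟩

/-- Elements of `A` have order prime to `s`. -/
theorem Ctx.coprime_orderOf (c : Ctx p A E) (hB : Big p A M s) {b : G} (hb : b ∈ A) :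
    (orderOf b).Coprime s := by
  have h1 : orderOf b ∣ Nat.card A := Subgroup.orderOf_dvd_natCard A hb
  obtain ⟨n, hn⟩ := IsPGroup.iff_card.mp c.hAp
  rw [hn] at h1
  refine Nat.Coprime.coprime_dvd_left h1 (Nat.Coprime.pow_left n ?_)
  exact (Nat.coprime_primes hp.out hs.out).mpr (Ne.symm hB.hsp)

/-- `K ≤ M` if some element of `A^#` has its centralizer in `M`. -/
theorem Ctx.KK_le_of_CC (c : Ctx p A E) {b : G} (hb : b ∈ A) (hbM : CC b ≤ M) : KK A ≤ M :=
  (c.KK_le_CC hb).trans hbM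

/-- Every `A`-invariant `s`-subgroup lies in `M`, if `K ≤ M`. -/
theorem Ctx.le_of_inv_s (c : Ctx p A E) (hB : Big p A M s) {E₀ : Subgroup G} (h : IsE0 s M E₀)
    (hKM : KK A ≤ M) {R : Subgroup G} (hR : IsPGroup s R) (hAR : A ≤ normalizer (R : Set G)) :
    R ≤ M := by
  obtain ⟨S, hS, -, hSM⟩ := c.exists_Sstar hB h
  obtain ⟨k, hk, hkR⟩ := c.conj_le hB.hsp hS hR hAR
  have h1 : R.map (cj k) ≤ M := hkR.trans hSM
  rw [map_cj_le_iff, map_cj_eq_of_mem (le_normalizer (inv_mem (hKM hk)))] at h1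
  exact h1

end big

end Cfsg.Agent.Lib.OddOrder.BG9U
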