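import Mathlib
import Cfsg.Agent.Lib.OddOrder.BG9UBig

/-!
# Bender-Glauberman, Section 9: a coprime action of `E_{p³}` on a noncyclic `s`-group

Either some hyperplane of `E` has noncyclic centralizer, or there is an invariant normal `E_{s²}`
which is the product of two subgroups of order `s`, centralized by hyperplanes of `E`.
-/

set_option autoImplicit false
set_option linter.unusedSectionVars false

namespace Cfsg.Agent.Lib.OddOrder.BG9U

open Cfsg Subgroup Cfsg.Agent.Lib.OddOrder.Base Cfsg.Agent.Lib.OddOrder.BG10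
open Cfsg.Agent.Lib.Coprime.InvSylow (le_normalizer_of_forall_conj_mem)
open scoped commutatorElement Pointwise

universe u

variable {G : Type u} [Group G] [Finite G]

section comb

variable {s : ℕ} [hs : Fact s.Prime]

theorem card_sup_of_inf_bot {U N : Subgroup G} (hU : U ≤ normalizer (N : Set G)) (h : N ⊓ U = ⊥) :
    Nat.card (N ⊔ U : Subgroup G) = Nat.card N * Nat.card U := by
  have h0 := Subgroup.coe_mul_of_right_le_normalizer_left N U hU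
  have h1 := Cfsg.Agent.Lib.Basic.ProductCard.ncard_mul_mul_card_inf N U
  rw [h, ← h0, ← Nat.card_coe_set_eq] at h1
  simpa using h1

theorem elem_of_card_prime {V : Subgroup G} (hV : Nat.card V = s) : IsElementaryAbelian s V := by
  haveI : Fact (Nat.card V).Prime := ⟨by rw [hV]; exact hs.out⟩
  haveI : IsCyclic V := isCyclic_of_prime_card (p := Nat.card V) rfl
  refine ⟨IsCyclic.isMulCommutative, fun a ha => ?_⟩
  have h5 := pow_card_eq_one' (x := (⟨a, ha⟩ : V))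
  rw [hV] at h5
  exact congrArg Subtype.val h5

theorem inf_eq_bot_of_card_prime {V W : Subgroup G} (hV : Nat.card V = s) (hne : ¬ V ≤ W) :
    W ⊓ V = ⊥ := by
  rw [eq_bot_iff]
  intro x hx
  by_contra hx1
  have hx1' : x ≠ 1 := fun h => hx1 (by rw [h]; exact one_mem _)
  apply hne
  rw [← eq_zpowers_of_card_eq_prime hV hx.2 hx1', zpowers_le]
  exact hx.1

/-- Build the group `D`. -/
theorem mk_D {U V₁ V₂ : Subgroup G} (hV₁U : V₁ ≤ U) (hV₂U : V₂ ≤ U) (hV₁c : Nat.card V₁ = s)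
    (hV₂c : Nat.card V₂ = s) (hne : ¬ V₂ ≤ V₁) (hcen : ∀ v ∈ V₁, ∀ u ∈ U, v * u = u * v)
    (hcomm : ∀ v ∈ V₂, ∀ u ∈ U, ⁅v, u⁆ ∈ V₁) :
    V₁ ⊔ V₂ ≤ U ∧ U ≤ normalizer ((V₁ ⊔ V₂ : Subgroup G) : Set G) ∧
      IsElementaryAbelian s (V₁ ⊔ V₂) ∧ Nat.card (V₁ ⊔ V₂ : Subgroup G) = s ^ 2 := by
  refine ⟨sup_le hV₁U hV₂U, ?_, ?_, ?_⟩
  · refine le_normalizer_of_forall_conj_mem fun u hu x hx => ?_
    have hle : V₁ ⊔ V₂ ≤ (V₁ ⊔ V₂).comap (cj u) := by
      refine sup_le ?_ ?_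
      · intro v hv
        apply (le_sup_left : V₁ ≤ V₁ ⊔ V₂)
        show u * v * u⁻¹ ∈ V₁
        rw [← hcen v hv u hu, mul_inv_cancel_right]
        exact hv
      · intro v hv
        show u * v * u⁻¹ ∈ V₁ ⊔ V₂
        have e : u * v * u⁻¹ = (⁅v, u⁆)⁻¹ * v := by
          rw [commutatorElement_def]; group
        rw [e]
        exact mul_mem ((le_sup_left : V₁ ≤ V₁ ⊔ V₂) (inv_mem (hcomm v hv u hu)))
          ((le_sup_right : V₂ ≤ V₁ ⊔ V₂) hv)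
    exact hle hx
  · obtain ⟨y, hy, hyV⟩ := SetLike.not_le_iff_exists.mp hne
    have hy1 : y ≠ 1 := fun h => hyV (h ▸ one_mem _)
    have hyp : y ^ s = 1 := (elem_of_card_prime hV₂c).2 y hy
    have h1 : V₂ = zpowers y := (eq_zpowers_of_card_eq_prime hV₂c hy hy1).symm
    rw [h1]
    exact Cfsg.Agent.Lib.PGroup.Basic.IsElementaryAbelian.sup_zpowers (elem_of_card_prime hV₁c) hyp
      (fun a ha => (hcen a ha y (hV₂U hy)).symm)
  · have hN : V₂ ≤ normalizer (V₁ : Set G) :=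
      le_normalizer_of_forall_conj_mem fun v hv x hx => by
        rw [← hcen x hx v (hV₂U hv), mul_assoc, mul_inv_cancel, mul_one]
        exact hx
    rw [card_sup_of_inf_bot hN (inf_eq_bot_of_card_prime hV₂c hne), hV₁c, hV₂c, sq]

theorem sup_le_normalizer {A X Y : Subgroup G} (hX : A ≤ normalizer (X : Set G))
    (hY : A ≤ normalizer (Y : Set G)) : A ≤ normalizer ((X ⊔ Y : Subgroup G) : Set G) := by
  intro a ha
  apply mem_normalizer_of_map_cj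
  rw [Subgroup.map_sup, map_cj_eq_of_mem (hX ha), map_cj_eq_of_mem (hY ha)]

theorem isCyclic_of_le {L L' : Subgroup G} (h : L ≤ L') (hL' : IsCyclic L') : IsCyclic L :=
  isCyclic_of_injective (Subgroup.inclusion h) (Subgroup.inclusion_injective h)

/-- A cyclic group of exponent `s` is trivial or of order `s`. -/
theorem card_eq_of_isCyclic_exp {L : Subgroup G} (hL : IsCyclic L) (hs' : ∀ x ∈ L, x ^ s = 1)
    (h1 : L ≠ ⊥) : Nat.card L = s := by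
  obtain ⟨g, hg⟩ := hL.exists_generator
  have hg1 : g ≠ 1 := by
    rintro rfl
    apply h1
    rw [eq_bot_iff]
    intro x hx
    obtain ⟨i, hi⟩ := hg ⟨x, hx⟩
    have := congrArg Subtype.val hi
    simp only [one_zpow] at this
    exact mem_bot.mpr this.symm
  have ho : orderOf g = s := orderOf_eq_prime (Subtype.ext (hs' g g.2)) hg1
  rw [← ho]
  exact (orderOf_eq_card_of_forall_mem_zpowers hg).symm

/-- `Ω₁(Z(U))` in `G`. -/
def om1 (s : ℕ) (U : Subgroup G) : Subgroup G where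
  carrier := {x | x ∈ U ∧ x ^ s = 1 ∧ ∀ u ∈ U, x * u = u * x}
  mul_mem' := by
    rintro a b ⟨ha, hap, hac⟩ ⟨hb, hbp, hbc⟩
    refine ⟨mul_mem ha hb, ?_, fun u hu => ?_⟩
    · rw [(show Commute a b from hac b hb).mul_pow, hap, hbp, one_mul]
    · rw [mul_assoc, hbc u hu, ← mul_assoc, hac u hu, mul_assoc]
  one_mem' := ⟨one_mem _, one_pow _, fun u _ => by simp⟩
  inv_mem' := by
    rintro a ⟨ha, hap, hac⟩
    refine ⟨inv_mem ha, by rw [inv_pow, hap, inv_one], fun u hu => ?_⟩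
    have := hac u hu
    calc a⁻¹ * u = a⁻¹ * (u * a) * a⁻¹ := by group
      _ = a⁻¹ * (a * u) * a⁻¹ := by rw [this]
      _ = u * a⁻¹ := by group

theorem mem_om1 {U : Subgroup G} {x : G} :
    x ∈ om1 s U ↔ x ∈ U ∧ x ^ s = 1 ∧ ∀ u ∈ U, x * u = u * x := Iff.rfl

theorem om1_normalizer {U : Subgroup G} : normalizer (U : Set G) ≤ normalizer (om1 s U : Set G) := by
  refine le_normalizer_of_forall_conj_mem fun g hg x hx => ?_
  obtain ⟨hxU, hxp, hxc⟩ := hx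
  refine ⟨(mem_normalizer_iff.mp hg x).mp hxU, ?_, fun u hu => ?_⟩
  · rw [conj_pow, hxp]; group
  · have h1 : g⁻¹ * u * g⁻¹⁻¹ ∈ U := (mem_normalizer_iff.mp (inv_mem hg) u).mp hu
    rw [inv_inv] at h1
    have h2 := hxc _ h1
    calc g * x * g⁻¹ * u = g * (x * (g⁻¹ * u * g)) * g⁻¹ := by group
      _ = g * ((g⁻¹ * u * g) * x) * g⁻¹ := by rw [h2]
      _ = u * (g * x * g⁻¹) := by group

/-- The commutator identity on `Ω₁(Z₂(U))`. -/
theorem commutator_mul_of_commute {x y u : G} (h : x * ⁅y, u⁆ = ⁅y, u⁆ * x) :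
    ⁅x * y, u⁆ = ⁅y, u⁆ * ⁅x, u⁆ := by
  have h1 : y * u * y⁻¹ = ⁅y, u⁆ * u := by
    rw [commutatorElement_def]; group
  calc ⁅x * y, u⁆ = x * (y * u * y⁻¹) * x⁻¹ * u⁻¹ := by
        rw [commutatorElement_def]; group
    _ = x * (⁅y, u⁆ * u) * x⁻¹ * u⁻¹ := by rw [h1]
    _ = (x * ⁅y, u⁆) * u * x⁻¹ * u⁻¹ := by group
    _ = (⁅y, u⁆ * x) * u * x⁻¹ * u⁻¹ := by rw [h]
    _ = ⁅y, u⁆ * ⁅x, u⁆ := by rw [commutatorElement_def x u]; group

/-- `Ω₁` of the preimage of `Z(U/Z₁)`, where `Z₁ = Ω₁(Z(U))`; this uses that `s` is odd. -/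
def om2 (hs2 : s ≠ 2) (U : Subgroup G) : Subgroup G where
  carrier := {x | x ∈ U ∧ x ^ s = 1 ∧ ∀ u ∈ U, ⁅x, u⁆ ∈ om1 s U}
  mul_mem' := by
    rintro a b ⟨ha, hap, hac⟩ ⟨hb, hbp, hbc⟩
    refine ⟨mul_mem ha hb, ?_, fun u hu => ?_⟩
    · have hd := hbc a ha
      have h5 := Cfsg.Agent.Lib.PGroup.Basic.mul_pow_of_commutator_central (x := a) (y := b)
        (show Commute a ⁅b, a⁆ from (hd.2.2 a ha).symm)
        (show Commute b ⁅b, a⁆ from (hd.2.2 b hb).symm) s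
      have h2p : 2 < s := lt_of_le_of_ne hs.out.two_le (Ne.symm hs2)
      obtain ⟨t, ht⟩ : s ∣ s.choose 2 := hs.out.dvd_choose_self (by norm_num) h2p
      rw [h5, ht, pow_mul, hd.2.1, one_pow, mul_one, hap, hbp, one_mul]
    · rw [commutator_mul_of_commute ((hbc u hu).2.2 a ha).symm]
      exact mul_mem (hbc u hu) (hac u hu)
  one_mem' := ⟨one_mem _, one_pow _, fun u _ => by simp [one_mem]⟩
  inv_mem' := by
    rintro a ⟨ha, hap, hac⟩
    refine ⟨inv_mem ha, by rw [inv_pow, hap, inv_one], fun u hu => ?_⟩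
    have h1 := commutator_mul_of_commute (x := a⁻¹) (y := a) (u := u)
      ((hac u hu).2.2 a⁻¹ (inv_mem ha)).symm
    rw [inv_mul_cancel, commutatorElement_one_left] at h1
    have h2 : ⁅a⁻¹, u⁆ = (⁅a, u⁆)⁻¹ := eq_inv_of_mul_eq_one_right h1.symm
    rw [h2]
    exact inv_mem (hac u hu)

theorem mem_om2 {hs2 : s ≠ 2} {U : Subgroup G} {x : G} :
    x ∈ om2 hs2 U ↔ x ∈ U ∧ x ^ s = 1 ∧ ∀ u ∈ U, ⁅x, u⁆ ∈ om1 s U := Iff.rfl

theorem om2_normalizer {hs2 : s ≠ 2} {U : Subgroup G} :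
    normalizer (U : Set G) ≤ normalizer (om2 hs2 U : Set G) := by
  refine le_normalizer_of_forall_conj_mem fun g hg x hx => ?_
  obtain ⟨hxU, hxp, hxc⟩ := hx
  refine ⟨(mem_normalizer_iff.mp hg x).mp hxU, ?_, fun u hu => ?_⟩
  · rw [conj_pow, hxp]; group
  · have h1 : g⁻¹ * u * g⁻¹⁻¹ ∈ U := (mem_normalizer_iff.mp (inv_mem hg) u).mp hu
    rw [inv_inv] at h1
    have h2 := hxc _ h1
    have e : ⁅g * x * g⁻¹, u⁆ = g * ⁅x, g⁻¹ * u * g⁆ * g⁻¹ := by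
      simp only [commutatorElement_def]; group
    rw [e]
    exact (mem_normalizer_iff.mp (om1_normalizer hg) _).mp h2

/-- `U` noncyclic with `Z₁` of order `s`: then `Ω₁(Z₂(U))` is bigger than `Z₁`. -/
theorem not_om2_le_om1 (hs2 : s ≠ 2) {U : Subgroup G} (hU : IsPGroup s U) (hnc : ¬ IsCyclic U)
    (hZ : Nat.card (om1 s U) = s) : ¬ om2 hs2 U ≤ om1 s U := by
  intro hle
  have hnc' : ¬ IsCyclic (⊤ : Subgroup U) := by
    intro hcyc
    exact hnc (isCyclic_of_surjective (Subgroup.topEquiv (G := U)).toMonoidHom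
      (Subgroup.topEquiv (G := U)).surjective)
  obtain ⟨N, -, hNn, hNe, hNc⟩ := Cfsg.Agent.Lib.PGroup.NormalRank.exists_normal_rank_two hs2 hU ⊤ hnc'
  haveI := hNn
  obtain ⟨z, e, -, heN, hzc, hzo, -, he1, -, hec⟩ :=
    Cfsg.Agent.Lib.PGroup.RankThree.normal_card_sq_structure hU N hNc
  have hzZ : (z : G) ∈ om1 s U := by
    refine ⟨z.2, ?_, fun u hu => ?_⟩
    · have : z ^ s = 1 := by rw [← hzo]; exact pow_orderOf_eq_one z
      exact congrArg Subtype.val this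
    · have := mem_center_iff.mp hzc ⟨u, hu⟩
      exact (congrArg Subtype.val this).symm
  have heZ : (e : G) ∈ om2 hs2 U := by
    refine ⟨e.2, congrArg Subtype.val (hNe.2 e heN), fun u hu => ?_⟩
    obtain ⟨i, hi⟩ := hec ⟨u, hu⟩
    have h1 : ⁅(e : G), u⁆ = (z : G) ^ i := by
      have := congrArg Subtype.val hi
      simp only [SubgroupClass.coe_zpow] at this
      rw [this]
      simp [commutatorElement_def]
    rw [h1]
    exact zpow_mem hzZ i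
  have hz1 : (z : G) ≠ 1 := by
    intro h
    have hz1 : z = 1 := Subtype.ext h
    rw [hz1, orderOf_one] at hzo
    exact hs.out.ne_one hzo.symm
  have h2 := hle heZ
  rw [← eq_zpowers_of_card_eq_prime hZ hzZ hz1] at h2
  obtain ⟨i, hi⟩ := h2
  apply he1
  refine ⟨i, ?_⟩
  apply Subtype.ext
  simpa using hi

end comb

section ctx

variable {p : ℕ} [hp : Fact p.Prime] {A E : Subgroup G} {s : ℕ} [hs : Fact s.Prime]

theorem isPGroup_of_exp {F : Subgroup G} (hF : ∀ x ∈ F, x ^ s = 1) : IsPGroup s F :=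
  fun x => ⟨1, Subtype.ext (by simpa using hF x x.2)⟩

theorem not_dvd_of_isPGroup {F : Subgroup G} (hF : IsPGroup s F) (hsp : s ≠ p) : ¬ p ∣ Nat.card F := by
  intro hd
  obtain ⟨n, hn⟩ := IsPGroup.iff_card.mp hF
  rw [hn] at hd
  exact hsp ((Nat.prime_dvd_prime_iff_eq hp.out hs.out).mp (hp.out.dvd_of_dvd_pow hd)).symm

/-- Selecting a hyperplane. -/
theorem Ctx.pick (c : Ctx p A E) (hsp : s ≠ p) {F F₀ : Subgroup G} (hFs : ∀ x ∈ F, x ^ s = 1)
    (hFA : A ≤ normalizer (F : Set G)) (hF₀ : ¬ F ≤ F₀) :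
    ∃ H : Subgroup G, H ≤ E ∧ H.relIndex E ≤ p ∧
      (¬ IsCyclic ↥(F ⊓ centralizer (H : Set G)) ∨
        (Nat.card ↥(F ⊓ centralizer (H : Set G)) = s ∧ ¬ F ⊓ centralizer (H : Set G) ≤ F₀)) := by
  by_contra hcon
  push Not at hcon
  apply hF₀
  refine le_of_hyperplanes c.hEe (not_dvd_of_isPGroup (isPGroup_of_exp hFs) hsp)
    (c.E_le_normalizer hFA) fun H hHE hHi => ?_
  obtain ⟨hcyc, hcard⟩ := hcon H hHE hHi
  by_cases h1 : F ⊓ centralizer (H : Set G) = ⊥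
  · rw [h1]; exact bot_le
  · exact hcard (card_eq_of_isCyclic_exp hcyc (fun x hx => hFs x hx.1) h1)

theorem Ctx.dichotomy0 (c : Ctx p A E) (hsp : s ≠ p) (hs2 : s ≠ 2) {U : Subgroup G}
    (hU : IsPGroup s U) (hAU : A ≤ normalizer (U : Set G)) (hUnc : ¬ IsCyclic U) :
    (∃ H : Subgroup G, H ≤ E ∧ H.relIndex E ≤ p ∧ ¬ IsCyclic ↥(U ⊓ centralizer (H : Set G))) ∨
      ∃ D : Subgroup G, D ≤ U ∧ U ≤ normalizer (D : Set G) ∧ A ≤ normalizer (D : Set G) ∧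
        IsElementaryAbelian s D ∧ Nat.card D = s ^ 2 := by
  classical
  have hHA : ∀ {H : Subgroup G}, H ≤ E → H ≤ A := fun h => h.trans c.hEA
  have hleft : ∀ {F H : Subgroup G}, F ≤ U → H ≤ E → H.relIndex E ≤ p →
      ¬ IsCyclic ↥(F ⊓ centralizer (H : Set G)) →
      ∃ H : Subgroup G, H ≤ E ∧ H.relIndex E ≤ p ∧ ¬ IsCyclic ↥(U ⊓ centralizer (H : Set G)) := by
    intro F H hFU hHE hHi hcy
    refine ⟨H, hHE, hHi, fun hcyc => hcy (isCyclic_of_le ?_ hcyc)⟩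
    exact inf_le_inf_right _ hFU
  have hZU : om1 s U ≤ U := fun x hx => hx.1
  have hZs : ∀ x ∈ om1 s U, x ^ s = 1 := fun x hx => hx.2.1
  have hZA : A ≤ normalizer (om1 s U : Set G) := hAU.trans om1_normalizer
  have hZ1 : ¬ om1 s U ≤ ⊥ := by
    have hU1 : U ≠ ⊥ := by
      rintro rfl
      exact hUnc (by infer_instance)
    haveI : Nontrivial U := (Subgroup.nontrivial_iff_ne_bot U).mpr hU1
    obtain ⟨z, hzc, hz⟩ := Cfsg.Agent.Lib.PGroup.CyclicMax2.exists_central_order_p hU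
    intro hle
    have hz1 : (z : G) ∈ om1 s U := by
      refine ⟨z.2, ?_, fun u hu => ?_⟩
      · have : z ^ s = 1 := by rw [← hz]; exact pow_orderOf_eq_one z
        exact congrArg Subtype.val this
      · have := mem_center_iff.mp hzc ⟨u, hu⟩
        exact (congrArg Subtype.val this).symm
    have h2 : (z : G) = 1 := mem_bot.mp (hle hz1)
    have hz2 : z = 1 := Subtype.ext h2
    rw [hz2, orderOf_one] at hz
    exact hs.out.ne_one hz.symm
  obtain ⟨H₁, hH₁E, hH₁i, h1⟩ := c.pick hsp hZs hZA hZ1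
  rcases h1 with h1 | ⟨hV₁c, -⟩
  · exact Or.inl (hleft hZU hH₁E hH₁i h1)
  set V₁ := om1 s U ⊓ centralizer (H₁ : Set G) with hV₁
  have hV₁A : A ≤ normalizer (V₁ : Set G) := inf_centralizer_inv c.hAc (hHA hH₁E) hZA
  have hV₁Z : V₁ ≤ om1 s U := inf_le_left
  by_cases hZV : om1 s U ≤ V₁
  · -- `Z₁` has order `s`
    have hZeq : om1 s U = V₁ := le_antisymm hZV hV₁Z
    have hZc : Nat.card (om1 s U) = s := by rw [hZeq, hV₁c]
    have hT := not_om2_le_om1 hs2 hU hUnc hZc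
    obtain ⟨H₂, hH₂E, hH₂i, h2⟩ := c.pick (F := om2 hs2 U) (F₀ := om1 s U) hsp
      (fun x (hx : x ∈ om2 hs2 U) => hx.2.1) (hAU.trans om2_normalizer) hT
    rcases h2 with h2 | ⟨hV₂c, hV₂ne⟩
    · exact Or.inl (hleft (fun x (hx : x ∈ om2 hs2 U) => hx.1) hH₂E hH₂i h2)
    obtain ⟨hD1, hD2, hD3, hD4⟩ := mk_D hZU
      ((inf_le_left : om2 hs2 U ⊓ centralizer (H₂ : Set G) ≤ om2 hs2 U).trans
        (fun x (hx : x ∈ om2 hs2 U) => hx.1))
      hZc hV₂c hV₂ne (fun v hv u hu => hv.2.2 u hu) (fun v hv u hu => hv.1.2.2 u hu)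
    refine Or.inr ⟨_, hD1, hD2, sup_le_normalizer hZA ?_, hD3, hD4⟩
    exact inf_centralizer_inv c.hAc (hHA hH₂E) (hAU.trans om2_normalizer)
  · obtain ⟨H₂, hH₂E, hH₂i, h2⟩ := c.pick (F := om1 s U) (F₀ := V₁) hsp hZs hZA hZV
    rcases h2 with h2 | ⟨hV₂c, hV₂ne⟩
    · exact Or.inl (hleft hZU hH₂E hH₂i h2)
    obtain ⟨hD1, hD2, hD3, hD4⟩ := mk_D (hV₁Z.trans hZU)
      ((inf_le_left : om1 s U ⊓ centralizer (H₂ : Set G) ≤ om1 s U).trans hZU) hV₁c hV₂c hV₂ne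
      (fun v hv u hu => hv.1.2.2 u hu)
      (fun v hv u hu => by
        rw [commutatorElement_eq_one_iff_mul_comm.mpr (hv.1.2.2 u hu)]
        exact one_mem _)
    refine Or.inr ⟨_, hD1, hD2, sup_le_normalizer hV₁A ?_, hD3, hD4⟩
    exact inf_centralizer_inv c.hAc (hHA hH₂E) hZA

/-- The data `D = V₁ × V₂`. -/
structure BData (p : ℕ) (E U : Subgroup G) (A : Subgroup G) (s : ℕ) (D V₁ V₂ H₁ H₂ : Subgroup G) : Prop where
  hDU : D ≤ U
  hUD : U ≤ normalizer (D : Set G)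
  hAD : A ≤ normalizer (D : Set G)
  hDe : IsElementaryAbelian s D
  hDc : Nat.card D = s ^ 2
  hH₁E : H₁ ≤ E
  hH₁i : H₁.relIndex E ≤ p
  hH₂E : H₂ ≤ E
  hH₂i : H₂.relIndex E ≤ p
  hV₁ : V₁ = D ⊓ centralizer (H₁ : Set G)
  hV₂ : V₂ = D ⊓ centralizer (H₂ : Set G)
  hV₁c : Nat.card V₁ = s
  hV₂c : Nat.card V₂ = s
  hne : ¬ V₂ ≤ V₁

theorem Ctx.dichotomy (c : Ctx p A E) (hsp : s ≠ p) (hs2 : s ≠ 2) {U : Subgroup G}
    (hU : IsPGroup s U) (hAU : A ≤ normalizer (U : Set G)) (hUnc : ¬ IsCyclic U) :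
    (∃ H : Subgroup G, H ≤ E ∧ H.relIndex E ≤ p ∧ ¬ IsCyclic ↥(U ⊓ centralizer (H : Set G))) ∨
      ∃ D V₁ V₂ H₁ H₂ : Subgroup G, BData p E U A s D V₁ V₂ H₁ H₂ := by
  obtain h | ⟨D, hDU, hUD, hAD, hDe, hDc⟩ := c.dichotomy0 hsp hs2 hU hAU hUnc
  · exact Or.inl h
  have hleft : ∀ {H : Subgroup G}, H ≤ E → H.relIndex E ≤ p →
      ¬ IsCyclic ↥(D ⊓ centralizer (H : Set G)) →
      ∃ H : Subgroup G, H ≤ E ∧ H.relIndex E ≤ p ∧ ¬ IsCyclic ↥(U ⊓ centralizer (H : Set G)) := by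
    intro H hHE hHi hcy
    refine ⟨H, hHE, hHi, fun hcyc => hcy (isCyclic_of_le ?_ hcyc)⟩
    exact inf_le_inf_right _ hDU
  have hDs : ∀ x ∈ D, x ^ s = 1 := hDe.2
  have hD1 : ¬ D ≤ ⊥ := by
    intro h
    have := le_bot_iff.mp h
    rw [this, Subgroup.card_bot] at hDc
    have h2 : 1 < s ^ 2 := Nat.one_lt_pow (by norm_num) hs.out.one_lt
    omega
  obtain ⟨H₁, hH₁E, hH₁i, h1⟩ := c.pick hsp hDs hAD hD1
  rcases h1 with h1 | ⟨hV₁c, -⟩
  · exact Or.inl (hleft hH₁E hH₁i h1)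
  have hDV : ¬ D ≤ D ⊓ centralizer (H₁ : Set G) := by
    intro h
    have := Nat.le_of_dvd Nat.card_pos (Subgroup.card_dvd_of_le h)
    rw [hDc, hV₁c] at this
    have h2 := lt_self_pow₀ hs.out.one_lt (show 1 < 2 by norm_num)
    omega
  obtain ⟨H₂, hH₂E, hH₂i, h2⟩ := c.pick hsp hDs hAD hDV
  rcases h2 with h2 | ⟨hV₂c, hne⟩
  · exact Or.inl (hleft hH₂E hH₂i h2)
  exact Or.inr ⟨D, _, _, H₁, H₂, hDU, hUD, hAD, hDe, hDc, hH₁E, hH₁i, hH₂E, hH₂i, rfl, rfl, hV₁c,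
    hV₂c, hne⟩

end ctx

end Cfsg.Agent.Lib.OddOrder.BG9U
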