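import Mathlib
import Cfsg.Agent.Lib.OddOrder.BG9UD

/-!
# Bender-Glauberman, Section 9: the case of a large Fitting subgroup at a prime `s ≠ p`
-/

set_option autoImplicit false
set_option linter.unusedSectionVars false

namespace Cfsg.Agent.Lib.OddOrder.BG9U

open Cfsg Subgroup Cfsg.Agent.Lib.OddOrder.Base Cfsg.Agent.Lib.OddOrder.BG10
open Cfsg.Agent.Lib.Basic.PCore
open Cfsg.Agent.Lib.Coprime.InvSylow (le_normalizer_of_forall_conj_mem)
open scoped commutatorElement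

universe u

variable {G : Type u} [Group G] [Finite G]

section aux

theorem coprime_of_isPGroup {q p : ℕ} [hq : Fact q.Prime] [hp : Fact p.Prime] {T : Subgroup G}
    (hT : IsPGroup q T) (hqp : q ≠ p) : (Nat.card T).Coprime p := by
  obtain ⟨n, hn⟩ := IsPGroup.iff_card.mp hT
  rw [hn]
  exact Nat.Coprime.pow_left n ((Nat.coprime_primes hq.out hp.out).mpr hqp)

/-- `C_H(O_q(H)) ≤ O_q(H)` in a solvable `{s,q}`-group with `O_s(H) = 1`. -/
theorem centralizer_piCore_le {H : Type*} [Group H] [Finite H] [Group.IsSolvable H] {s q : ℕ}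
    [hs : Fact s.Prime] [hq : Fact q.Prime]
    (hπ : ∀ r : ℕ, r.Prime → r ∣ Nat.card H → r = s ∨ r = q) (hs1 : piCore {s} H = ⊥) :
    centralizer (piCore {q} H : Set H) ≤ piCore {q} H := by
  have hF : fittingSubgroup H ≤ piCore {q} H := by
    rw [fittingSubgroup_eq_iSup_pCore]
    refine iSup_le fun r => ?_
    have hr : r.1.Prime := Nat.prime_of_mem_primeFactors r.2
    rcases hπ r.1 hr (Nat.dvd_of_mem_primeFactors r.2) with h | h
    · rw [h]
      have := Cfsg.Agent.Lib.OddOrder.BG10.pCore_le_piCore (H := H) {s} (r := s) rfl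
      rw [hs1] at this
      exact this.trans bot_le
    · rw [h]
      exact Cfsg.Agent.Lib.OddOrder.BG10.pCore_le_piCore (H := H) {q} (r := q) rfl
  exact (Subgroup.centralizer_le hF).trans
    (Cfsg.Agent.Lib.OddOrder.BG4.centralizer_fitting_le.trans hF)

/-- `C_J(O_q(J)) ≤ O_q(J)` in `G`-form. -/
theorem inf_centralizer_piCoreOf_le {J : Subgroup G} (hJ : Group.IsSolvable J) {s q : ℕ}
    [hs : Fact s.Prime] [hq : Fact q.Prime]
    (hπ : ∀ r : ℕ, r.Prime → r ∣ Nat.card J → r = s ∨ r = q) (hs1 : piCoreOf {s} J = ⊥) :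
    J ⊓ centralizer (piCoreOf {q} J : Set G) ≤ piCoreOf {q} J := by
  have h1 : piCore {s} J = ⊥ := by
    have := (Subgroup.map_eq_bot_iff_of_injective _ J.subtype_injective).mp hs1
    exact this
  have h2 := centralizer_piCore_le hπ h1
  rintro x ⟨hxJ, hxC⟩
  refine ⟨⟨x, hxJ⟩, h2 ?_, rfl⟩
  rw [mem_centralizer_iff]
  intro y hy
  apply Subtype.ext
  exact mem_centralizer_iff.mp hxC y ⟨y, hy, rfl⟩

theorem map_cj_ne_bot {W : Subgroup G} (h : W ≠ ⊥) (k : G) : W.map (cj k) ≠ ⊥ := by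
  intro he
  apply h
  rw [← map_cj_inv_cj W k, he, Subgroup.map_bot]

theorem isCyclic_map_cj {W : Subgroup G} (k : G) (h : IsCyclic (W.map (cj k))) : IsCyclic W :=
  isCyclic_of_injective (W.equivMapOfInjective (cj k) (MulAut.conj k).injective).toMonoidHom
    (W.equivMapOfInjective (cj k) (MulAut.conj k).injective).injective

end aux

section main

variable {p : ℕ} [hp : Fact p.Prime] {A E M : Subgroup G} {s : ℕ} [hs : Fact s.Prime]

/-- **Lemma N.** `b ∈ A^#` with `C(b)` not in `M`; `V ≤ O_s(M) ∩ C(b)` of order `s` with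
`N(V) ≤ M`. Every nontrivial `A`-invariant `s`-subgroup `W` of `C(b)` contains a `K`-conjugate of
`V`, and `N(W) ≤ M`. -/
theorem Ctx.lemmaN (c : Ctx p A E) (hB : Big p A M s) {E₀ : Subgroup G} (h0 : IsE0 s M E₀)
    (hKM : KK A ≤ M) {b : G} (hbA : b ∈ A) (hb1 : b ≠ 1) (hbM : ¬ CC b ≤ M) {V : Subgroup G}
    (hVU : V ≤ UU s M) (hVb : V ≤ CC b) (hVc : Nat.card V = s)
    (hNV : normalizer (V : Set G) ≤ M) {W : Subgroup G} (hWp : IsPGroup s W) (hW1 : W ≠ ⊥)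
    (hWA : A ≤ normalizer (W : Set G)) (hWb : W ≤ CC b) :
    ∃ k ∈ KK A, V.map (cj k) ≤ W ∧ normalizer (W : Set G) ≤ M := by
  obtain ⟨S, hS, hUS, -⟩ := c.exists_Sstar hB h0
  have hSp : IsPGroup s S := isPGroup_of_maxInv hS
  obtain ⟨k, hk, hkW⟩ := c.conj_le hB.hsp hS hWp hWA
  have hkb : k ∈ CC b := c.KK_le_CC hbA hk
  have hCp : IsPGroup s (S ⊓ CC b : Subgroup G) := hSp.to_le inf_le_left
  have hC : IsCyclic (S ⊓ CC b : Subgroup G) := by
    by_contra hnc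
    exact hbM (c.CC_le_of_noncyclic hB h0 hSp (h0.le.trans hUS) hb1 (normalizer_of_maxInv hS hbA)
      (c.coprime_orderOf hB hbA) inf_le_left inf_le_right hnc)
  have hW₀ : W.map (cj k) ≤ S ⊓ CC b := le_inf hkW (map_cj_le_CC hWb hkb)
  have hVC : V ≤ S ⊓ CC b := le_inf (hVU.trans hUS) hVb
  have hVW₀ := le_of_isCyclic hC hCp hVC hVc hW₀ (map_cj_ne_bot hW1 k)
  have hVW : V.map (cj k⁻¹) ≤ W := by
    rw [map_cj_le_iff, inv_inv]
    exact hVW₀
  refine ⟨k⁻¹, inv_mem hk, hVW, ?_⟩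
  have hWc : IsCyclic W := isCyclic_map_cj k (isCyclic_of_le hW₀ hC)
  have hk'M : k⁻¹ ∈ M := inv_mem (hKM hk)
  intro g hg
  have h1 : (V.map (cj k⁻¹)).map (cj g) ≤ W := by
    rw [← map_cj_eq_of_mem hg]
    exact map_mono hVW
  have h2 := eq_of_card_eq_prime_of_isCyclic hWc h1 hVW
    (by rw [card_map_cj, card_map_cj, hVc]) (by rw [card_map_cj, hVc])
  have h3 : g ∈ normalizer ((V.map (cj k⁻¹) : Subgroup G) : Set G) := mem_normalizer_of_map_cj h2
  rw [normalizer_map_cj] at h3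
  obtain ⟨x, hx, rfl⟩ := h3
  exact mul_mem (mul_mem hk'M (hNV hx)) (inv_mem hk'M)

/-- **Lemma H.** With the notation of Lemma N: an `A`-invariant `q`-subgroup `T` of `C(b)` lies in
`M`, unless `V` acts nontrivially on an `A`-invariant `q`-subgroup of `C(b)`. -/
theorem Ctx.lemmaH (c : Ctx p A E) (hB : Big p A M s) {E₀ : Subgroup G} (h0 : IsE0 s M E₀)
    (hKM : KK A ≤ M) {b : G} (hbA : b ∈ A) (hb1 : b ≠ 1) (hbM : ¬ CC b ≤ M) {V : Subgroup G}
    (hVU : V ≤ UU s M) (hVb : V ≤ CC b) (hVc : Nat.card V = s)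
    (hNV : normalizer (V : Set G) ≤ M) (hVA : A ≤ normalizer (V : Set G)) {q : ℕ}
    [hq : Fact q.Prime] (hqp : q ≠ p) (hqs : q ≠ s) {T : Subgroup G} (hTp : IsPGroup q T)
    (hTA : A ≤ normalizer (T : Set G)) (hTb : T ≤ CC b) :
    T ≤ M ∨ ∃ R : Subgroup G, IsPGroup q R ∧ A ≤ normalizer (R : Set G) ∧ R ≤ CC b ∧
      V ≤ normalizer (R : Set G) ∧ ¬ V ≤ centralizer (R : Set G) := by
  have hX : CC b ≠ ⊤ := c.CC_ne_top hb1
  have hAX : A ≤ CC b := c.A_le_CC hbA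
  set Y : Subgroup G := piCoreOf (primesNotDvd (Nat.card A)) (CC b) with hY
  have hYX : Y ≤ CC b := Cfsg.Agent.Lib.Coprime.TH.piCoreOf_le _ _
  have hTY : T ≤ Y := c.le_core hX hAX hTb (coprime_of_isPGroup hTp hqp) hTA
  have hVp : IsPGroup s V := isPGroup_of_isElementaryAbelian (elem_of_card_prime hVc)
  have hVY : V ≤ Y := c.le_core hX hAX hVb (coprime_of_isPGroup hVp hB.hsp) hVA
  have hYA : A ≤ normalizer (Y : Set G) := fun a ha =>
    Cfsg.Agent.Lib.Coprime.TH.mem_normalizer_piCoreOf _ _ (le_normalizer (hAX ha))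
  have hcop : (Nat.card A).Coprime (Nat.card Y) :=
    Cfsg.Agent.Lib.Coprime.TH.coprime_of_isPi (Cfsg.Agent.Lib.Coprime.TH.isPi_piCoreOf _ _)
  have hYsolv : Group.IsSolvable Y :=
    solvable_of_ne_top c.hG (fun h => hX (top_le_iff.mp (h ▸ hYX)))
  obtain ⟨J, hJ, hJA, hTJ⟩ := Cfsg.Agent.Lib.Coprime.InvHall.exists_inv_hall_ge A Y hYA hcop hYsolv
    {s, q} T hTY hTA (fun r hr hd => by
      right
      exact primes_of_isPGroup hTp r hr hd)
  have hJY : J ≤ Y := hJ.1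
  have hJX : J ≤ CC b := hJY.trans hYX
  have hJtop : J ≠ ⊤ := fun h => hX (top_le_iff.mp (h ▸ hJX))
  have hJsolv : Group.IsSolvable J := solvable_of_ne_top c.hG hJtop
  have hsJ : s ∣ Nat.card J := by
    have h1 := Cfsg.Agent.Lib.Coprime.InvHall.card_mul_relIndex hJY
    have h2 : s ∣ Nat.card Y := by
      rw [← hVc]
      exact Subgroup.card_dvd_of_le hVY
    rw [← h1] at h2
    exact (hs.out.dvd_mul.mp h2).resolve_right (hJ.2.2 s hs.out (Or.inl rfl))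
  have hJπ : ∀ r : ℕ, r.Prime → r ∣ Nat.card J → r = s ∨ r = q := fun r hr hd => hJ.2.1 r hr hd
  have hJcop : (Nat.card A).Coprime (Nat.card J) :=
    Nat.Coprime.coprime_dvd_right (Subgroup.card_dvd_of_le hJY) hcop
  set W : Subgroup G := piCoreOf {s} J with hW
  have hWJ : W ≤ J := Cfsg.Agent.Lib.Coprime.TH.piCoreOf_le _ _
  have hWp : IsPGroup s W := isPGroup_of_primes (Cfsg.Agent.Lib.Coprime.TH.isPi_piCoreOf _ _)
  have hWA : A ≤ normalizer (W : Set G) := fun a ha =>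
    Cfsg.Agent.Lib.Coprime.TH.mem_normalizer_piCoreOf _ _ (hJA ha)
  by_cases hW1 : W = ⊥
  · -- `O_s(J) = 1`
    right
    obtain ⟨P₁, hP₁A⟩ := Cfsg.Agent.Lib.Coprime.InvSylow.exists_invariant_sylow hJA hJcop
      (Or.inr hJsolv) s
    set S₁ : Subgroup G := (P₁ : Subgroup J).map J.subtype with hS₁
    have hS₁J : S₁ ≤ J := map_subtype_le _
    have hS₁p : IsPGroup s S₁ := P₁.isPGroup'.map _
    have hS₁1 : S₁ ≠ ⊥ := by
      intro he
      have h1 : (P₁ : Subgroup J) = ⊥ :=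
        (Subgroup.map_eq_bot_iff_of_injective _ J.subtype_injective).mp he
      have h2 := P₁.not_dvd_index
      rw [h1, Subgroup.index_bot] at h2
      exact h2 hsJ
    obtain ⟨k, hk, hVS₁, -⟩ := c.lemmaN hB h0 hKM hbA hb1 hbM hVU hVb hVc hNV hS₁p hS₁1 hP₁A
      (hS₁J.trans hJX)
    set R₀ : Subgroup G := piCoreOf {q} J with hR₀
    have hR₀J : R₀ ≤ J := Cfsg.Agent.Lib.Coprime.TH.piCoreOf_le _ _
    have hR₀p : IsPGroup q R₀ := isPGroup_of_primes (Cfsg.Agent.Lib.Coprime.TH.isPi_piCoreOf _ _)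
    have hR₀A : A ≤ normalizer (R₀ : Set G) := fun a ha =>
      Cfsg.Agent.Lib.Coprime.TH.mem_normalizer_piCoreOf _ _ (hJA ha)
    have hJN : J ≤ normalizer (R₀ : Set G) := fun j hj =>
      Cfsg.Agent.Lib.Coprime.TH.mem_normalizer_piCoreOf _ _ (le_normalizer hj)
    have hk'A : k⁻¹ ∈ centralizer (A : Set G) := inv_mem (KK_le A hk)
    have hVkJ : V.map (cj k) ≤ J := hVS₁.trans hS₁J
    have hnc : ¬ V.map (cj k) ≤ centralizer (R₀ : Set G) := by
      intro hle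
      have h1 : V.map (cj k) ≤ R₀ :=
        (le_inf hVkJ hle).trans (inf_centralizer_piCoreOf_le hJsolv hJπ hW1)
      have h2 : s ∣ Nat.card R₀ := by
        rw [← hVc, ← card_map_cj V k]
        exact Subgroup.card_dvd_of_le h1
      obtain ⟨n, hn⟩ := IsPGroup.iff_card.mp hR₀p
      rw [hn] at h2
      exact hqs ((Nat.prime_dvd_prime_iff_eq hs.out hq.out).mp (hs.out.dvd_of_dvd_pow h2)).symm
    refine ⟨R₀.map (cj k⁻¹), hR₀p.map _, inv_map_cj hR₀A hk'A,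
      map_cj_le_CC (hR₀J.trans hJX) (c.KK_le_CC hbA (inv_mem hk)), ?_, ?_⟩
    · intro v hv
      rw [normalizer_map_cj]
      refine ⟨k * v * k⁻¹, hJN (hVkJ (conj_mem_map k hv)), ?_⟩
      show k⁻¹ * (k * v * k⁻¹) * (k⁻¹)⁻¹ = v
      group
    · intro hle
      apply hnc
      rintro _ ⟨v, hv, rfl⟩
      rw [mem_centralizer_iff]
      intro r hr
      have h1 := mem_centralizer_iff.mp (hle hv) (k⁻¹ * r * k) (by
        have := conj_mem_map k⁻¹ (show r ∈ R₀ from hr)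
        simpa using this)
      show r * (k * v * k⁻¹) = k * v * k⁻¹ * r
      calc r * (k * v * k⁻¹) = k * ((k⁻¹ * r * k) * v) * k⁻¹ := by group
        _ = k * (v * (k⁻¹ * r * k)) * k⁻¹ := by rw [h1]
        _ = k * v * k⁻¹ * r := by group
  · -- `O_s(J) ≠ 1`
    left
    obtain ⟨-, -, -, hNW⟩ := c.lemmaN hB h0 hKM hbA hb1 hbM hVU hVb hVc hNV hWp hW1 hWA
      (hWJ.trans hJX)
    have hJN : J ≤ normalizer (W : Set G) := fun j hj =>
      Cfsg.Agent.Lib.Coprime.TH.mem_normalizer_piCoreOf _ _ (le_normalizer hj)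
    exact hTJ.trans (hJN.trans hNW)

/-- All `A`-invariant `p'`-subgroups lie in `M`. -/
def AllInv (p : ℕ) (A M : Subgroup G) : Prop :=
  ∀ R : Subgroup G, (Nat.card R).Coprime p → A ≤ normalizer (R : Set G) → R ≤ M

theorem Ctx.allInv_of_prime (c : Ctx p A E)
    (h : ∀ (q : ℕ) [Fact q.Prime], q ≠ p → ∀ R : Subgroup G, IsPGroup q R →
      A ≤ normalizer (R : Set G) → R ≤ M) : AllInv p A M := by
  intro R hRc hRA
  have hRp : ¬ p ∣ Nat.card R := fun hd =>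
    Nat.Prime.not_coprime_iff_dvd.mpr ⟨p, hp.out, hd, dvd_rfl⟩ hRc
  have hcop : (Nat.card A).Coprime (Nat.card R) := by
    obtain ⟨n, hn⟩ := IsPGroup.iff_card.mp c.hAp
    rw [hn]
    exact Nat.Coprime.pow_left n hRc.symm
  have hAsolv : Group.IsSolvable A := by
    haveI := c.hAp.isNilpotent
    infer_instance
  refine Cfsg.Agent.Lib.OddOrder.BG9.le_of_forall_sylow fun q hq hd => ?_
  haveI hq' : Fact q.Prime := ⟨hq⟩
  obtain ⟨P, hP⟩ := Cfsg.Agent.Lib.Coprime.InvSylow.exists_invariant_sylow hRA hcop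
    (Or.inl hAsolv) q
  refine ⟨hq', P, fun x hx => ?_⟩
  have hqp : q ≠ p := by
    rintro rfl
    exact hRp hd
  exact h q hqp _ (P.isPGroup'.map _) hP ⟨x, hx, rfl⟩

/-- Case (A) of the dichotomy: a hyperplane `H` with `C_U(H)` noncyclic. -/
theorem Ctx.allInv_of_hyper (c : Ctx p A E) (hB : Big p A M s) {E₀ : Subgroup G}
    (h0 : IsE0 s M E₀) {H : Subgroup G} (hHE : H ≤ E) (hHi : H.relIndex E ≤ p)
    (hnc : ¬ IsCyclic ↥(UU s M ⊓ centralizer (H : Set G))) : AllInv p A M := by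
  obtain ⟨S, hS, hUS, -⟩ := c.exists_Sstar hB h0
  have hSp : IsPGroup s S := isPGroup_of_maxInv hS
  intro R hRc hRA
  have hRp : ¬ p ∣ Nat.card R := fun hd =>
    Nat.Prime.not_coprime_iff_dvd.mpr ⟨p, hp.out, hd, dvd_rfl⟩ hRc
  refine le_of_hyperplanes c.hEe hRp (c.E_le_normalizer hRA) fun B hBE hBi => ?_
  obtain ⟨b, hb, hb1⟩ := exists_mem_inf c.hEc hBi hHi
  have hbA : b ∈ A := c.hEA (hHE hb.2)
  have hLb : UU s M ⊓ centralizer (H : Set G) ≤ CC b := fun x hx =>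
    mem_CC.mpr (mem_centralizer_iff.mp hx.2 b hb.2)
  have h1 := c.CC_le_of_noncyclic hB h0 hSp (h0.le.trans hUS) hb1 (normalizer_of_maxInv hS hbA)
    (c.coprime_orderOf hB hbA) (inf_le_left.trans hUS) hLb hnc
  refine le_trans ?_ h1
  intro x hx
  exact mem_CC.mpr (mem_centralizer_iff.mp hx.2 b hb.1)

/-- The facts about the data of case (B). -/
structure BFacts (p : ℕ) (A M : Subgroup G) (s : ℕ) (D V₁ V₂ H₁ H₂ : Subgroup G) : Prop where
  hDU : InUniqueMaximal D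
  hDM : D ≤ M
  hDnc : ¬ IsCyclic D
  hsup : V₁ ⊔ V₂ = D
  hV₁D : V₁ ≤ D
  hV₂D : V₂ ≤ D
  hV₁C : V₁ ≤ centralizer (H₁ : Set G)
  hV₂C : V₂ ≤ centralizer (H₂ : Set G)
  hV₁A : A ≤ normalizer (V₁ : Set G)
  hV₂A : A ≤ normalizer (V₂ : Set G)
  hNV₁ : normalizer (V₁ : Set G) ≤ M
  hNV₂ : normalizer (V₂ : Set G) ≤ M
  hKM : KK A ≤ M

theorem Ctx.bFacts (c : Ctx p A E) (hB : Big p A M s) {E₀ : Subgroup G} (h0 : IsE0 s M E₀)
    {D V₁ V₂ H₁ H₂ : Subgroup G} (hd : BData p E (UU s M) A s D V₁ V₂ H₁ H₂) :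
    BFacts p A M s D V₁ V₂ H₁ H₂ := by
  have hUp : IsPGroup s (UU s M) := isPGroup_UU
  have hUr : ¬ PRankLE s 2 (UU s M) := h0.not_prankLE_of_le h0.le
  have hDM : D ≤ M := hd.hDU.trans UU_le
  haveI hn : (D.subgroupOf (UU s M)).Normal := by
    rw [Subgroup.normal_subgroupOf_iff_le_normalizer hd.hDU]
    exact hd.hUD
  have hU0 := c.unique_of_normal hB h0 hUp hUr (D.subgroupOf (UU s M)) (elem_subgroupOf hd.hDe)
    (by rw [card_subgroupOf_eq hd.hDU, hd.hDc])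
  rw [subgroupOf_map_subtype, inf_eq_left.mpr hd.hDU] at hU0
  have hDc' : s < Nat.card D := by
    rw [hd.hDc]
    exact lt_self_pow₀ hs.out.one_lt (by norm_num)
  have hDnc : ¬ IsCyclic D := not_isCyclic_of_elem le_rfl hd.hDe hDc'
  have hV₁D : V₁ ≤ D := by rw [hd.hV₁]; exact inf_le_left
  have hV₂D : V₂ ≤ D := by rw [hd.hV₂]; exact inf_le_left
  have hsup : V₁ ⊔ V₂ = D := by
    have hle : V₁ ⊔ V₂ ≤ D := sup_le hV₁D hV₂D
    have hlt : V₁ < V₁ ⊔ V₂ := by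
      refine lt_of_le_of_ne le_sup_left fun he => hd.hne ?_
      rw [he]
      exact le_sup_right
    have hc := card_lt_of_lt hlt
    rw [hd.hV₁c] at hc
    have hc2 : Nat.card (V₁ ⊔ V₂ : Subgroup G) ∣ s ^ 2 := by
      rw [← hd.hDc]
      exact Subgroup.card_dvd_of_le hle
    obtain ⟨j, hj, hj2⟩ := (Nat.dvd_prime_pow hs.out).mp hc2
    have hj3 : j = 2 := by
      interval_cases j
      · rw [hj2] at hc
        have := hs.out.one_lt
        simp at hc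
        omega
      · rw [hj2] at hc
        simp at hc
      · rfl
    subst hj3
    exact Subgroup.eq_of_le_of_card_ge hle (by rw [hj2, hd.hDc])
  have hV₁C : V₁ ≤ centralizer (H₁ : Set G) := by rw [hd.hV₁]; exact inf_le_right
  have hV₂C : V₂ ≤ centralizer (H₂ : Set G) := by rw [hd.hV₂]; exact inf_le_right
  have hV₁A : A ≤ normalizer (V₁ : Set G) := by
    rw [hd.hV₁]
    exact inf_centralizer_inv c.hAc (hd.hH₁E.trans c.hEA) hd.hAD
  have hV₂A : A ≤ normalizer (V₂ : Set G) := by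
    rw [hd.hV₂]
    exact inf_centralizer_inv c.hAc (hd.hH₂E.trans c.hEA) hd.hAD
  have hDe' := Cfsg.Agent.Lib.PGroup.Basic.isElementaryAbelian_iff.mp hd.hDe
  have hNV : ∀ {V : Subgroup G}, V ≤ D → Nat.card V = s → normalizer (V : Set G) ≤ M := by
    intro V hVD hVc
    have hDN : D ≤ normalizer (V : Set G) :=
      le_normalizer_of_forall_conj_mem fun d hd' x hx => by
        rw [hDe'.1 d hd' x (hVD hx), mul_assoc, mul_inv_cancel, mul_one]
        exact hx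
    have hV1 : V ≠ ⊥ := by
      rintro rfl
      rw [Subgroup.card_bot] at hVc
      exact hs.out.ne_one hVc.symm
    have hVp : IsPGroup s V := isPGroup_of_isElementaryAbelian (elem_of_card_prime hVc)
    exact le_M_of_unique hB.hM hU0 hDM hDN (normalizer_ne_top c.hG hV1 (pgroup_ne_top c.hG hVp))
  obtain ⟨b₀, hb₀, hb₀1⟩ := exists_mem_inf c.hEc hd.hH₁i hd.hH₂i
  have hb₀A : b₀ ∈ A := c.hEA (hd.hH₁E hb₀.1)
  have hDb₀ : D ≤ CC b₀ := by
    rw [← hsup]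
    refine sup_le ?_ ?_
    · exact fun x hx => mem_CC.mpr (mem_centralizer_iff.mp (hV₁C hx) b₀ hb₀.1)
    · exact fun x hx => mem_CC.mpr (mem_centralizer_iff.mp (hV₂C hx) b₀ hb₀.2)
  have hb₀M : CC b₀ ≤ M := le_M_of_unique hB.hM hU0 hDM hDb₀ (c.CC_ne_top hb₀1)
  exact ⟨hU0, hDM, hDnc, hsup, hV₁D, hV₂D, hV₁C, hV₂C, hV₁A, hV₂A, hNV hV₁D hd.hV₁c,
    hNV hV₂D hd.hV₂c, c.KK_le_of_CC hb₀A hb₀M⟩

theorem Ctx.not_isCyclic_UU {E₀ : Subgroup G} (h0 : IsE0 s M E₀) : ¬ IsCyclic (UU s M) :=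
  not_isCyclic_of_elem h0.le h0.elem
    (lt_trans (lt_self_pow₀ hs.out.one_lt (by norm_num)) h0.card)

/-- The dichotomy for a maximal subgroup with large Fitting subgroup. -/
theorem Ctx.big_dichotomy (c : Ctx p A E) (hB : Big p A M s) {E₀ : Subgroup G}
    (h0 : IsE0 s M E₀) :
    AllInv p A M ∨ ∃ D V₁ V₂ H₁ H₂ : Subgroup G, BData p E (UU s M) A s D V₁ V₂ H₁ H₂ ∧
      BFacts p A M s D V₁ V₂ H₁ H₂ := by
  obtain h | ⟨D, V₁, V₂, H₁, H₂, hd⟩ := c.dichotomy hB.hsp (c.two_ne h0) (isPGroup_UU (s := s) (M := M))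
    (hB.hAM.trans le_normalizer_UU) (Ctx.not_isCyclic_UU h0)
  · obtain ⟨H, hHE, hHi, hnc⟩ := h
    exact Or.inl (c.allInv_of_hyper hB h0 hHE hHi hnc)
  · exact Or.inr ⟨D, V₁, V₂, H₁, H₂, hd, c.bFacts hB h0 hd⟩

/-- `V₁` or `V₂` is not in the proper overgroup `X` of `A` if `X ≠ M`. -/
theorem Ctx.exists_V_not_le {D V₁ V₂ H₁ H₂ : Subgroup G} (hd : BData p E (UU s M) A s D V₁ V₂ H₁ H₂)
    (hf : BFacts p A M s D V₁ V₂ H₁ H₂) (hM : IsCoatom M) {M' : Subgroup G} (hM' : IsCoatom M')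
    (hne : M' ≠ M) :
    ∃ V H : Subgroup G, H ≤ E ∧ H.relIndex E ≤ p ∧ V ≤ UU s M ∧ V ≤ centralizer (H : Set G) ∧
      Nat.card V = s ∧ A ≤ normalizer (V : Set G) ∧ normalizer (V : Set G) ≤ M ∧ ¬ V ≤ M' := by
  by_cases h1 : V₁ ≤ M'
  · by_cases h2 : V₂ ≤ M'
    · exfalso
      apply hne
      refine uniq_of_le hM hf.hDU hf.hDM hM' ?_
      rw [← hf.hsup]
      exact sup_le h1 h2
    · exact ⟨V₂, H₂, hd.hH₂E, hd.hH₂i, hf.hV₂D.trans hd.hDU, hf.hV₂C, hd.hV₂c, hf.hV₂A, hf.hNV₂, h2⟩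
  · exact ⟨V₁, H₁, hd.hH₁E, hd.hH₁i, hf.hV₁D.trans hd.hDU, hf.hV₁C, hd.hV₁c, hf.hV₁A, hf.hNV₁, h1⟩

/-- **Lemma E.** Two maximal subgroups over `A`, with large Fitting subgroups, are equal. -/
theorem Ctx.lemmaE (c : Ctx p A E) {s' : ℕ} [hs' : Fact s'.Prime] {M' : Subgroup G}
    (hB : Big p A M s) (hB' : Big p A M' s') : M = M' := by
  obtain ⟨E₀, h0⟩ := hB.exists_E0
  obtain ⟨E₀', h0'⟩ := hB'.exists_E0
  rcases c.big_dichotomy hB h0 with hall | ⟨D, V₁, V₂, H₁, H₂, hd, hf⟩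
  · have h1 : UU s' M' ≤ M := hall _ (coprime_of_isPGroup isPGroup_UU hB'.hsp)
      (hB'.hAM.trans le_normalizer_UU)
    exact c.uniq_E0 hB' h0' M hB.hM (h0'.le.trans h1)
  rcases c.big_dichotomy hB' h0' with hall | ⟨D', V₁', V₂', H₁', H₂', hd', hf'⟩
  · have h1 : UU s M ≤ M' := hall _ (coprime_of_isPGroup isPGroup_UU hB.hsp)
      (hB.hAM.trans le_normalizer_UU)
    exact (c.uniq_E0 hB h0 M' hB'.hM (h0.le.trans h1)).symm
  by_contra hne
  obtain ⟨V, H, hHE, hHi, hVU, hVC, hVc, hVA, hNV, hVM'⟩ :=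
    Ctx.exists_V_not_le hd hf hB.hM hB'.hM (Ne.symm hne)
  obtain ⟨V', H', hHE', hHi', hVU', hVC', hVc', hVA', hNV', hVM⟩ :=
    Ctx.exists_V_not_le hd' hf' hB'.hM hB.hM hne
  obtain ⟨b, hb, hb1⟩ := exists_mem_inf c.hEc hHi hHi'
  have hbA : b ∈ A := c.hEA (hHE hb.1)
  have hVb : V ≤ CC b := fun x hx => mem_CC.mpr (mem_centralizer_iff.mp (hVC hx) b hb.1)
  have hVb' : V' ≤ CC b := fun x hx => mem_CC.mpr (mem_centralizer_iff.mp (hVC' hx) b hb.2)
  have hbM : ¬ CC b ≤ M := fun h => hVM (hVb'.trans h)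
  have hbM' : ¬ CC b ≤ M' := fun h => hVM' (hVb.trans h)
  have hV'p : IsPGroup s' V' := isPGroup_of_isElementaryAbelian (elem_of_card_prime hVc')
  by_cases hss : s' = s
  · subst hss
    exact hVM (c.le_of_inv_s hB h0 hf.hKM hV'p hVA')
  rcases c.lemmaH hB h0 hf.hKM hbA hb1 hbM hVU hVb hVc hNV hVA hB'.hsp hss hV'p hVA' hVb' with h | h
  · exact hVM h
  · obtain ⟨R, hRp, hRA, hRb, hVR, hVRc⟩ := h
    have hR1 : R ≠ ⊥ := by
      rintro rfl
      apply hVRc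
      intro v _
      rw [mem_centralizer_iff]
      intro x hx
      have : x = 1 := by simpa using hx
      simp [this]
    obtain ⟨-, -, -, hNR⟩ := c.lemmaN hB' h0' hf'.hKM hbA hb1 hbM' hVU' hVb' hVc' hNV' hRp hR1 hRA hRb
    exact hVM' (hVR.trans hNR)

/-- An element of `A` centralizing `R`, normalized by `V` of prime order, centralizes `V` unless `V`
centralizes `R`. -/
theorem commute_of_centralizes {z : G} {V R : Subgroup G} (hVc : Nat.card V = s)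
    (hzV : z ∈ normalizer (V : Set G)) (hVR : V ≤ normalizer (R : Set G))
    (hVRc : ¬ V ≤ centralizer (R : Set G)) (hRz : R ≤ CC z) : V ≤ CC z := by
  intro v hv
  rw [mem_CC]
  have hzv : z * v * z⁻¹ ∈ V := (mem_normalizer_iff.mp hzV v).mp hv
  set w := v⁻¹ * (z * v * z⁻¹) with hw
  have hwV : w ∈ V := mul_mem (inv_mem hv) hzv
  by_cases hw1 : w = 1
  · have h1 : v⁻¹ * (z * v * z⁻¹) = 1 := hw1
    have h2 : z * v * z⁻¹ = v := by
      rw [inv_mul_eq_one] at h1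
      exact h1.symm
    rw [mul_inv_eq_iff_eq_mul] at h2
    exact h2
  · exfalso
    apply hVRc
    rw [← eq_zpowers_of_card_eq_prime hVc hwV hw1, zpowers_le, mem_centralizer_iff]
    intro x hx
    have hxz : z * x = x * z := mem_CC.mp (hRz hx)
    have hvx : v * x * v⁻¹ ∈ R := (mem_normalizer_iff.mp (hVR hv) x).mp hx
    have hvxz : z * (v * x * v⁻¹) = (v * x * v⁻¹) * z := mem_CC.mp (hRz hvx)
    have h1 : z⁻¹ * x * z = x := by
      rw [mul_assoc, ← hxz]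
      group
    have h2 : z * (v * (z⁻¹ * x * z) * v⁻¹) * z⁻¹ = v * x * v⁻¹ := by
      rw [h1, hvxz]
      group
    have h3 : w * x * w⁻¹ = x := by
      rw [hw]
      calc v⁻¹ * (z * v * z⁻¹) * x * (v⁻¹ * (z * v * z⁻¹))⁻¹
          = v⁻¹ * (z * (v * (z⁻¹ * x * z) * v⁻¹) * z⁻¹) * v := by group
        _ = v⁻¹ * (v * x * v⁻¹) * v := by rw [h2]
        _ = x := by group
    rw [mul_inv_eq_iff_eq_mul] at h3
    exact h3.symm

/-- The final step in case (B). -/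
theorem Ctx.final_big (c : Ctx p A E) (hB : Big p A M s) {E₀ : Subgroup G} (h0 : IsE0 s M E₀)
    {D V₁ V₂ H₁ H₂ : Subgroup G} (hd : BData p E (UU s M) A s D V₁ V₂ H₁ H₂)
    (hf : BFacts p A M s D V₁ V₂ H₁ H₂) {z : G} (hzA : z ∈ A) (hz1 : z ≠ 1)
    (hstar : ∀ (r : ℕ) [Fact r.Prime], r ≠ p → ∀ R : Subgroup G, IsPGroup r R →
      A ≤ normalizer (R : Set G) → R ≤ M ∨ R ≤ CC z) : AllInv p A M := by
  -- a nontrivial action
  let Bad : Subgroup G → Subgroup G → Prop := fun V H => ∃ b ∈ H, b ≠ 1 ∧ ¬ CC b ≤ M ∧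
    ∃ (r : ℕ) (_ : Fact r.Prime) (R : Subgroup G), r ≠ p ∧ r ≠ s ∧ IsPGroup r R ∧
      A ≤ normalizer (R : Set G) ∧ V ≤ normalizer (R : Set G) ∧ ¬ V ≤ centralizer (R : Set G)
  have hUnormal := le_normalizer_UU (s := s) (M := M)
  have hstep : ∀ V H : Subgroup G, V ≤ UU s M → Nat.card V = s → A ≤ normalizer (V : Set G) →
      Bad V H → V ≤ CC z ∧ ¬ CC z ≤ M := by
    rintro V H hVU hVc hVA ⟨b, -, -, -, r, hr, R, hrp, hrs, hRp, hRA, hVR, hVRc⟩
    have hRM : ¬ R ≤ M := by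
      intro hle
      apply hVRc
      intro v hv
      rw [mem_centralizer_iff]
      intro x hx
      have h1 : x * v * x⁻¹ * v⁻¹ ∈ UU s M :=
        mul_mem ((mem_normalizer_iff.mp (hUnormal (hle hx)) v).mp (hVU hv)) (inv_mem (hVU hv))
      have h2 : x * (v * x⁻¹ * v⁻¹) ∈ R :=
        mul_mem hx ((mem_normalizer_iff.mp (hVR hv) x⁻¹).mp (inv_mem hx))
      have h3 : x * v * x⁻¹ * v⁻¹ ∈ UU s M ⊓ R := ⟨h1, by
        have e : x * v * x⁻¹ * v⁻¹ = x * (v * x⁻¹ * v⁻¹) := by group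
        rw [e]
        exact h2⟩
      have hbot : UU s M ⊓ R = ⊥ := by
        apply disjoint_iff.mp
        apply Subgroup.disjoint_of_coprime_natCard
        obtain ⟨n, hn⟩ := IsPGroup.iff_card.mp (isPGroup_UU (s := s) (M := M))
        obtain ⟨m, hm⟩ := IsPGroup.iff_card.mp hRp
        rw [hn, hm]
        exact Nat.Coprime.pow n m ((Nat.coprime_primes hs.out hr.out).mpr (Ne.symm hrs))
      rw [hbot, mem_bot] at h3
      have h4 : x * v * x⁻¹ = v := by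
        rwa [mul_inv_eq_one] at h3
      rw [mul_inv_eq_iff_eq_mul] at h4
      exact h4
    have hRz : R ≤ CC z := (hstar r hrp R hRp hRA).resolve_left hRM
    exact ⟨commute_of_centralizes hVc (hVA hzA) hVR hVRc hRz, fun hle => hRM (hRz.trans hle)⟩
  have hU1 : V₁ ≤ UU s M := hf.hV₁D.trans hd.hDU
  have hU2 : V₂ ≤ UU s M := hf.hV₂D.trans hd.hDU
  have hnot : ¬ Bad V₁ H₁ ∨ ¬ Bad V₂ H₂ := by
    by_contra hcon
    push Not at hcon
    obtain ⟨h1, h2⟩ := hcon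
    obtain ⟨hz1', hnM⟩ := hstep V₁ H₁ hU1 hd.hV₁c hf.hV₁A h1
    obtain ⟨hz2', -⟩ := hstep V₂ H₂ hU2 hd.hV₂c hf.hV₂A h2
    have hDz : D ≤ CC z := by
      rw [← hf.hsup]
      exact sup_le hz1' hz2'
    exact hnM (le_M_of_unique hB.hM hf.hDU hf.hDM hDz (c.CC_ne_top hz1))
  have hfin : ∀ V H : Subgroup G, H ≤ E → H.relIndex E ≤ p → V ≤ UU s M →
      V ≤ centralizer (H : Set G) → Nat.card V = s → A ≤ normalizer (V : Set G) →
      normalizer (V : Set G) ≤ M → ¬ Bad V H → AllInv p A M := by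
    intro V H hHE hHi hVU hVC hVc hVA hNV hnb
    refine c.allInv_of_prime fun q _ hqp T hTp hTA => ?_
    by_cases hqs : q = s
    · subst hqs
      exact c.le_of_inv_s hB h0 hf.hKM hTp hTA
    refine le_of_hyperplanes c.hEe ?_ (c.E_le_normalizer hTA) fun B hBE hBi => ?_
    · exact not_dvd_of_isPGroup hTp hqp
    obtain ⟨b, hb, hb1⟩ := exists_mem_inf c.hEc hBi hHi
    have hbA : b ∈ A := c.hEA (hHE hb.2)
    have hTb : T ⊓ centralizer (B : Set G) ≤ CC b := fun x hx =>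
      mem_CC.mpr (mem_centralizer_iff.mp hx.2 b hb.1)
    by_cases hbM : CC b ≤ M
    · exact hTb.trans hbM
    have hVb : V ≤ CC b := fun x hx => mem_CC.mpr (mem_centralizer_iff.mp (hVC hx) b hb.2)
    rcases c.lemmaH hB h0 hf.hKM hbA hb1 hbM hVU hVb hVc hNV hVA hqp hqs
      (hTp.to_le inf_le_left) (inf_centralizer_inv c.hAc (hBE.trans c.hEA) hTA) hTb with h | h
    · exact h
    · obtain ⟨R, hRp, hRA, -, hVR, hVRc⟩ := h
      exact absurd ⟨b, hb.2, hb1, hbM, q, inferInstance, R, hqp, hqs, hRp, hRA, hVR, hVRc⟩ hnb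
  rcases hnot with h | h
  · exact hfin V₁ H₁ hd.hH₁E hd.hH₁i hU1 hf.hV₁C hd.hV₁c hf.hV₁A hf.hNV₁ h
  · exact hfin V₂ H₂ hd.hH₂E hd.hH₂i hU2 hf.hV₂C hd.hV₂c hf.hV₂A hf.hNV₂ h

end main

end Cfsg.Agent.Lib.OddOrder.BG9U
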