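import Mathlib
import Cfsg.Agent.Lib.OddOrder.BG9UMain
import Cfsg.Agent.Lib.Basic.SmallSimple
import Cfsg.Agent.S1393
import Cfsg.Agent.S1395
import Cfsg.Agent.S1396

/-!
# Bender-Glauberman, Section 9: `SCN₃`-subgroups lie in a unique maximal subgroup

The proof does not use the signalizer functor theorem: it takes the uniqueness statements S1400 and
S1401 and the rank two theorems S1450, S1451 as hypotheses.
-/

set_option autoImplicit false
set_option linter.unusedSectionVars false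

namespace Cfsg.Agent.Lib.OddOrder.BG9U

open Cfsg Subgroup Cfsg.Agent.Lib.OddOrder.Base Cfsg.Agent.Lib.OddOrder.BG10
open Cfsg.Agent.Lib.Basic.PCore
open Cfsg.Agent.Lib.Coprime.InvSylow (le_normalizer_of_forall_conj_mem)
open scoped commutatorElement

universe u

variable {G : Type u} [Group G] [Finite G] {p : ℕ} [hp : Fact p.Prime]

/-- `P ∩ N(P)'` contains a central element of order `p` of `P`, by Burnside's transfer theorem. -/
theorem exists_z (hG : IsMinSimpleOddOrder G) (P : Sylow p G) (hpG : p ∣ Nat.card G) :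
    ∃ z : G, z ∈ (P : Subgroup G) ∧ z ≠ 1 ∧ z ^ p = 1 ∧ (∀ x ∈ (P : Subgroup G), z * x = x * z) ∧
      z ∈ ⁅normalizer ((P : Subgroup G) : Set G), normalizer ((P : Subgroup G) : Set G)⁆ := by
  set N : Subgroup G := normalizer ((P : Subgroup G) : Set G) with hN
  have hPN : (P : Subgroup G) ≤ N := le_normalizer
  set D : Subgroup G := (P : Subgroup G) ⊓ ⁅N, N⁆ with hD
  have hDN : ∀ g ∈ N, ∀ x ∈ D, g * x * g⁻¹ ∈ D := by
    intro g hg x hx
    refine ⟨(mem_normalizer_iff.mp hg x).mp hx.1, ?_⟩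
    have h1 : (⁅N, N⁆ : Subgroup G).map (cj g) = ⁅N, N⁆ := by
      rw [Subgroup.map_commutator, map_cj_eq_of_mem (le_normalizer hg)]
    rw [← h1]
    exact conj_mem_map g hx.2
  have hD1 : D ≠ ⊥ := by
    intro hbot
    have hcomm : N ≤ centralizer ((P : Subgroup G) : Set G) := by
      intro g hg
      rw [mem_centralizer_iff]
      intro x hx
      have h1 : ⁅x, g⁆ ∈ D := by
        refine ⟨?_, commutator_mem_commutator (hPN hx) hg⟩
        have e : ⁅x, g⁆ = x * (g * x⁻¹ * g⁻¹) := by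
          rw [commutatorElement_def]; group
        rw [e]
        exact mul_mem hx ((mem_normalizer_iff.mp hg x⁻¹).mp (inv_mem hx))
      rw [hbot, mem_bot, commutatorElement_eq_one_iff_mul_comm] at h1
      exact h1
    haveI := hG.2.1
    have h1 := Cfsg.Agent.Lib.Basic.SmallSimple.card_eq_of_le_centralizer hpG P hcomm
    have h2 : (P : Subgroup G) = ⊤ := by
      apply Subgroup.eq_top_of_card_eq
      exact h1.symm
    exact pgroup_ne_top hG P.isPGroup' h2
  have hnot : ¬ D.subgroupOf (P : Subgroup G) ≤ ⊥ := by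
    intro hle
    apply hD1
    rw [eq_bot_iff]
    intro x hx
    have := hle (mem_subgroupOf.mpr (show ((⟨x, hx.1⟩ : (P : Subgroup G)) : G) ∈ D from hx))
    have h2 : (⟨x, hx.1⟩ : (P : Subgroup G)) = 1 := mem_bot.mp this
    exact mem_bot.mpr (congrArg Subtype.val h2)
  haveI hnorm : (D.subgroupOf (P : Subgroup G)).Normal := by
    refine ⟨fun x hx g => ?_⟩
    exact mem_subgroupOf.mpr (hDN g (hPN g.2) x (mem_subgroupOf.mp hx))
  obtain ⟨z, hzD, hz1, hzp, hzc⟩ := Cfsg.Agent.Lib.PGroup.Critical.exists_mem_central_mod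
    P.isPGroup' ⊥ (D.subgroupOf (P : Subgroup G)) hnot
  have hzD' : (z : G) ∈ D := mem_subgroupOf.mp hzD
  refine ⟨z, z.2, fun h => hz1 (mem_bot.mpr (Subtype.ext h)), ?_, fun x hx => ?_, hzD'.2⟩
  · exact congrArg Subtype.val (mem_bot.mp hzp)
  · have h1 := mem_bot.mp (hzc ⟨x, hx⟩)
    rw [commutatorElement_eq_one_iff_mul_comm] at h1
    exact congrArg Subtype.val h1

/-- **Uniqueness for `SCN₃`**, with the hypotheses made explicit. -/
theorem S1402_core (hG : IsMinSimpleOddOrder G) (P : Sylow p G) {A : Subgroup G}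
    (hA : IsSCN (P : Subgroup G) A) (hA3 : ¬ PRankLE p 2 ↥A) (h1400 : Hyp1400 G) (h1401 : Hyp1401 G)
    (h1450 : LengthHyp.{u}) (h1451 : NilHyp.{u}) : InUniqueMaximal A := by
  classical
  have hAP : A ≤ (P : Subgroup G) := hA.1
  have hAp : IsPGroup p A := P.isPGroup'.to_le hA.1
  have hAle : A ≤ centralizer (A : Set G) := by
    intro x hx
    have h0 : x ∈ (P : Subgroup G) ⊓ centralizer (A : Set G) := by rw [hA.2.2]; exact hx
    exact (Subgroup.mem_inf.mp h0).2
  have hAc : ∀ a ∈ A, ∀ b ∈ A, a * b = b * a := fun a ha b hb => mem_centralizer_iff.mp (hAle hb) a ha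
  have hAcomm : IsMulCommutative A := ⟨⟨fun x y => Subtype.ext (hAc _ x.2 _ y.2)⟩⟩
  have hA1 : ¬ PRankLE p 1 ↥A := fun h => hA3 (prankLE_mono hp.out.pos (by norm_num) h)
  -- the subgroup `E`
  obtain ⟨E', hE'A, hE'e, hE'c⟩ := exists_of_not_prankLE_subgroup hA3
  obtain ⟨E, hEA, hEe, hEc⟩ : ∃ E : Subgroup G, E ≤ A ∧ IsElementaryAbelian p E ∧
      Nat.card E = p ^ 3 := by
    obtain ⟨n, hn⟩ := IsPGroup.iff_card.mp (isPGroup_of_isElementaryAbelian hE'e)
    have hn3 : 3 ≤ n := by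
      by_contra hlt
      have hle : n ≤ 2 := by omega
      have := Nat.pow_le_pow_right hp.out.pos hle
      omega
    have hd : p ^ 3 ∣ Nat.card E' := by
      rw [hn]
      exact pow_dvd_pow p hn3
    obtain ⟨K, hK⟩ := Sylow.exists_subgroup_card_pow_prime (G := E') p hd
    refine ⟨K.map E'.subtype, (map_subtype_le K).trans hE'A,
      isElementaryAbelian_mono hE'e (map_subtype_le K), ?_⟩
    rw [Subgroup.card_map_of_injective E'.subtype_injective, hK]
  have hpA : p ∣ Nat.card A := by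
    have h1 := Subgroup.card_dvd_of_le hEA
    rw [hEc] at h1
    exact (dvd_pow_self p (by norm_num)).trans h1
  have hpG : p ∣ Nat.card G := hpA.trans (Subgroup.card_subgroup_dvd_card A)
  have hTH : TransitivityHypothesis A := Cfsg.Agent.S1396.result hG p hpG A hAp hAcomm
    (Or.inr ⟨P, hA, hA1⟩)
  have hZ : ¬ RankLE 2 ↥(A ⊓ centralizer (A : Set G)) := by
    rw [inf_eq_left.mpr hAle]
    exact not_rankLE_of_not_prankLE hp.out hA3
  have htr : ∀ q : ℕ, q.Prime → ¬ q ∣ Nat.card A → ∀ Q₁ ∈ maxInvSubgroups ⊤ A {q},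
      ∀ Q₂ ∈ maxInvSubgroups ⊤ A {q}, ∃ k ∈ KK A, Q₂ = Q₁.map (MulAut.conj k).toMonoidHom :=
    fun q hq hqA => Cfsg.Agent.S1393.result hG A hTH hZ q hq hqA
  have c : Ctx p A E := ⟨hG, hAp, hAc, hTH, htr, hEA, hEe, hEc, h1400, h1401⟩
  have hPtop : (P : Subgroup G) ≠ ⊤ := pgroup_ne_top hG P.isPGroup'
  obtain ⟨z, hzP, hz1, hzp, hzc, hzN⟩ := exists_z hG P hpG
  have hzA : z ∈ A := by
    rw [← hA.2.2]
    exact ⟨hzP, mem_centralizer_iff.mpr fun a ha => (hzc a (hAP ha)).symm⟩
  by_cases hpbig : ∃ M : Subgroup G, IsCoatom M ∧ ¬ PRankLE p 2 ↥(fittingOf M)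
  · obtain ⟨M, hM, hr⟩ := hpbig
    exact h1401 M hM p hr A hAp hAcomm hA3
  push Not at hpbig
  have hPπ : ∀ r : ℕ, r.Prime → r ∣ Nat.card (P : Subgroup G) → r ∣ Nat.card A := by
    intro r hr hd
    obtain ⟨n, hn⟩ := IsPGroup.iff_card.mp P.isPGroup'
    rw [hn] at hd
    rw [(Nat.prime_dvd_prime_iff_eq hr hp.out).mp (hr.dvd_of_dvd_pow hd)]
    exact hpA
  have hsn : (A.subgroupOf (P : Subgroup G)).IsSubnormal := by
    haveI : (A.subgroupOf (P : Subgroup G)).Normal :=
      (Subgroup.normal_subgroupOf_iff_le_normalizer hA.1).mpr hA.2.1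
    exact Subgroup.Normal.isSubnormal inferInstance
  -- the dichotomy for the `A`-invariant `r`-subgroups
  have hdich : ∀ (r : ℕ) [Fact r.Prime], r ≠ p → ∀ R : Subgroup G, IsPGroup r R →
      A ≤ normalizer (R : Set G) → R ≤ CC z ∨ ∃ (M' : Subgroup G) (s : ℕ) (_ : Fact s.Prime),
        Big p A M' s ∧ ∃ k ∈ KK A, R.map (cj k) ≤ M' := by
    intro r hr hrp R hRp hRA
    have hbotp : IsPGroup r (⊥ : Subgroup G) := IsPGroup.of_bot
    have hbotN : (P : Subgroup G) ≤ normalizer ((⊥ : Subgroup G) : Set G) :=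
      le_normalizer_of_forall_conj_mem fun a _ x hx => by
        rw [mem_bot.mp hx]
        simp [one_mem]
    obtain ⟨Q, hQ, -⟩ := exists_maxInv_ge hbotp hbotN
    obtain ⟨-, -, hsub, hfin⟩ := Cfsg.Agent.S1395.result hG A hTH r hr.out (c.not_dvd hr.out hrp)
      (P : Subgroup G) hPtop hPπ hA.1 hsn (htr r hr.out (c.not_dvd hr.out hrp))
    have hQA := hsub hQ
    have hfQ := (hfin Q hQ).1
    have hQp : IsPGroup r Q := isPGroup_of_maxInv hQ
    have hPQ : (P : Subgroup G) ≤ normalizer (Q : Set G) := normalizer_of_maxInv hQ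
    obtain ⟨k, hk, hkR⟩ := c.conj_le hrp hQA hRp hRA
    have hkz : k⁻¹ ∈ CC z := c.KK_le_CC hzA (inv_mem hk)
    have hfromQ : Q ≤ CC z → R ≤ CC z := by
      intro hle
      have h1 := hkR.trans hle
      rw [map_cj_le_iff, map_cj_eq_of_mem (le_normalizer hkz)] at h1
      exact h1
    by_cases hQ1 : Q = ⊥
    · left
      apply hfromQ
      rw [hQ1]
      exact bot_le
    have hQtop : Q ≠ ⊤ := pgroup_ne_top hG hQp
    obtain ⟨M', hM', hNM'⟩ := exists_coatom_ge hG (normalizer_ne_top hG hQ1 hQtop)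
    have hAM' : A ≤ M' := hAP.trans (hPQ.trans hNM')
    have hQM' : Q ≤ M' := le_normalizer.trans hNM'
    by_cases hbig' : ∃ s : ℕ, s.Prime ∧ ¬ PRankLE s 2 ↥(fittingOf M')
    · obtain ⟨s, hs, hsr⟩ := hbig'
      right
      have hsp : s ≠ p := by
        rintro rfl
        exact hsr (hpbig M' hM')
      exact ⟨M', s, ⟨hs⟩, ⟨hM', hAM', hsp, hsr⟩, k, hk, hkR.trans hQM'⟩
    left
    apply hfromQ
    push Not at hbig'
    haveI hM'solv : Group.IsSolvable M' := solvable_of_coatom hG hM'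
    have hrank : RankLE 2 (fittingSubgroup ↥M') := by
      intro s hs
      refine Cfsg.Agent.Lib.OddOrder.BG9.prankLE_of_injective
        (((fittingSubgroup ↥M').equivMapOfInjective M'.subtype M'.subtype_injective).toMonoidHom)
        (((fittingSubgroup ↥M').equivMapOfInjective M'.subtype M'.subtype_injective).injective)
        (hbig' s hs)
    have hnil := h1451 ↥M' (odd_card_subgroup hG M') hrank
    have hzM' : z ∈ ⁅M', M'⁆ := by
      have h1 : z ∈ ⁅normalizer (Q : Set G), normalizer (Q : Set G)⁆ := hfQ ⟨hzP, hzN⟩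
      exact Subgroup.commutator_mono hNM' hNM' h1
    rw [← Subgroup.map_subtype_commutator] at hzM'
    obtain ⟨y, hy, rfl⟩ := hzM'
    have hy1 : (y : M') ≠ 1 := fun h => hz1 (by rw [h]; rfl)
    have hyp : y ^ p = 1 := Subtype.ext hzp
    have hyo : orderOf y = p ^ 1 := by
      rw [pow_one]
      exact orderOf_eq_prime hyp hy1
    have hycore : y ∈ pCore p ↥M' := mem_pCore_of_normal_nilpotent inferInstance hnil hy hp.out hyo
    have hQY : Q ≤ piCoreOf (primesNotDvd (Nat.card A)) M' :=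
      c.le_core hM'.1 hAM' hQM' (Cfsg.Agent.Lib.OddOrder.BG9U.coprime_of_isPGroup hQp hrp)
        (normalizer_of_maxInv hQA)
    have hpπ : p ∉ primesNotDvd (Nat.card A) := fun h => h.2 hpA
    have hdisj : Disjoint (pCore p ↥M') (piCore (primesNotDvd (Nat.card A)) ↥M') := by
      apply Subgroup.disjoint_of_coprime_natCard
      obtain ⟨n, hn⟩ := IsPGroup.iff_card.mp (pCore_isPGroup (G := ↥M') p)
      rw [hn]
      exact Nat.Coprime.pow_left n (Cfsg.Agent.Lib.OddOrder.BG10.coprime_card_piCore _ hp.out hpπ).symm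
    intro x hx
    obtain ⟨x', hx', hxe⟩ := hQY hx
    have h1 := Subgroup.commute_of_normal_of_disjoint _ _ inferInstance inferInstance hdisj y x'
      hycore hx'
    rw [mem_CC, ← hxe]
    exact congrArg Subtype.val h1
  -- the maximal subgroup
  have hall : ∃ M : Subgroup G, IsCoatom M ∧ A ≤ M ∧ AllInv p A M := by
    by_cases hbig : ∃ (M : Subgroup G) (s : ℕ) (_ : Fact s.Prime), Big p A M s
    · obtain ⟨M, s, hs, hB⟩ := hbig
      obtain ⟨E₀, h0⟩ := hB.exists_E0
      refine ⟨M, hB.hM, hB.hAM, ?_⟩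
      rcases c.big_dichotomy hB h0 with hall | ⟨D, V₁, V₂, H₁, H₂, hd, hf⟩
      · exact hall
      refine c.final_big hB h0 hd hf hzA hz1 fun r hr hrp R hRp hRA => ?_
      rcases hdich r hrp R hRp hRA with h | ⟨M', s', hs', hB', k, hk, hkR⟩
      · exact Or.inr h
      · left
        have hMM' : M = M' := c.lemmaE hB hB'
        rw [← hMM'] at hkR
        rw [map_cj_le_iff, map_cj_eq_of_mem (le_normalizer (inv_mem (hf.hKM hk)))] at hkR
        exact hkR
    · push Not at hbig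
      obtain ⟨M, hM, hzM⟩ := exists_coatom_ge hG (c.CC_ne_top hz1)
      refine ⟨M, hM, (c.A_le_CC hzA).trans hzM, c.allInv_of_prime fun r hr hrp R hRp hRA => ?_⟩
      rcases hdich r hrp R hRp hRA with h | ⟨M', s', hs', hB', -⟩
      · exact h.trans hzM
      · exact absurd hB' (hbig M' s' hs')
  obtain ⟨M, hM, hAM, hinv⟩ := hall
  have hA1' : A ≠ ⊥ := hTH.1
  have h1450' : ∀ H : Subgroup G, H ≠ ⊤ → p ∣ Nat.card H → PRankLE p 2 H →
      ((pPrimePCore p H).index).Coprime p := by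
    intro H hH hd hr
    haveI := solvable_of_ne_top hG hH
    exact (h1450 ↥H (odd_card_subgroup hG H) p hd hr).2
  exact inUniqueMaximal_iff.mpr ⟨M, hM, hAM, fun L hL hAL =>
    Cfsg.Agent.Lib.OddOrder.BG9.unique_of_inv hG hM hAp hA1' hAM hinv h1450' hL hAL⟩

end Cfsg.Agent.Lib.OddOrder.BG9U
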