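import Mathlib
import Cfsg.Prelude.Def_OddOrderLocal
import Cfsg.Agent.Lib.OddOrder.BGPT12
import Cfsg.Agent.Lib.OddOrder.BG14HP
import Cfsg.Agent.Lib.OddOrder.BG14HQW
import Cfsg.Agent.Lib.OddOrder.BGPartE
import Cfsg.Agent.S1350
import Cfsg.Agent.S1404
import Cfsg.Agent.S1428
import Cfsg.Agent.S1429

/-!
# Bender-Glauberman: the inputs `PInp` from the rows S1430, S1431, S1432
-/

set_option autoImplicit false
set_option linter.unusedVariables false
set_option linter.unusedSectionVars false
set_option linter.style.haveILetI false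

namespace Cfsg.Agent.Lib.OddOrder.BGPT

open Cfsg Subgroup
open Cfsg.Agent.Lib.OddOrder.BGRows

universe u

variable {G : Type u} [Group G] [Finite G]

theorem PInp.of (hG : IsMinSimpleOddOrder G) (h1430 : H1430 G) (h1431 : H1431 G) (h1432 : H1432 G) :
    PInp G := by
  have I := Cfsg.Agent.Lib.OddOrder.BG12.inputs hG
  have h1428 : H1428 G := fun M hM E hE p hp P hPE hP R hRE hR =>
    Cfsg.Agent.S1428.result hG M hM E hE p hp P hPE hP R hRE hR
  have hConj : Cfsg.Agent.Lib.OddOrder.BGPart.ConjHyp G := BG14H.thmP hG h1428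
  have h1350 : H1350 G := fun M hM => Cfsg.Agent.S1350.result hG M hM
  have h1433 := BG14H.S1433_of hG h1428 h1432
  exact
    { hG := hG
      h1350 := h1350
      h1404 := fun M hM => Cfsg.Agent.S1404.result hG M hM
      h1429 := fun M hM hP1 p _ hpM hp S => Cfsg.Agent.S1429.result hG M hM hP1 p hpM hp S
      h1430 := h1430
      h1431 := h1431
      h1432 := h1432
      h1377 := fun M hM => Cfsg.Agent.Lib.OddOrder.BGPart.S1377_core I hConj h1350 h1432 h1433 M hM
      part := hConj
      tilde_disj := fun M N hM hN hne =>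
        Cfsg.Agent.Lib.OddOrder.BGPart.tilde_disjoint I hConj h1350 h1432 h1433 M N hM hN hne
      zhat_tilde := fun M K hM hK hK1 N hN y z hz =>
        Cfsg.Agent.Lib.OddOrder.BGPart.zhat_not_tilde I hConj h1350 h1431 h1432 hM hK hK1 N hN y z hz }

end Cfsg.Agent.Lib.OddOrder.BGPT
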