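import Mathlib
import Cfsg.Prelude.Def_OddOrderLocal
import Cfsg.Agent.Lib.OddOrder.BGPTInp
import Cfsg.Agent.S1426
import Cfsg.Agent.S1430
import Cfsg.Agent.S1431
import Cfsg.Agent.S1432

/-!
# Bender-Glauberman: `PInp G` from `IsMinSimpleOddOrder G`
-/

set_option autoImplicit false

namespace Cfsg.Agent.Lib.OddOrder.BGPT

open Cfsg Subgroup
open Cfsg.Agent.Lib.OddOrder.BGRows

universe u

variable {G : Type u} [Group G] [Finite G]

theorem pinp (hG : IsMinSimpleOddOrder G) : PInp G :=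
  PInp.of hG (fun M hM K hK hK1 => Cfsg.Agent.S1430.result hG M hM K hK hK1)
    (fun M hM K hK hK1 => Cfsg.Agent.S1431.result hG M hM K hK hK1)
    (fun M hM x hx hx1 x' hx' hx'1 hσ => Cfsg.Agent.S1432.result hG M hM x hx hx1 x' hx' hx'1 hσ)

end Cfsg.Agent.Lib.OddOrder.BGPT
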