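import Mathlib
import Cfsg.Prelude.Def_OddOrderLocal
import Cfsg.Agent.Lib.Solvable.PSeries
import Cfsg.Agent.Lib.Basic.PCore
import Cfsg.Agent.Lib.Basic.SylowUtil
import Cfsg.Agent.Lib.Transfer.Frobenius

/-!
# Control of fusion from `p`-length one of normalizers (BG 10.x / S1413)

If `N_G(T)` has `p`-length at most one for all nontrivial `p`-subgroups `T`, then `N_G(P)` controls
fusion in a Sylow subgroup `P`.
-/

set_option autoImplicit false
set_option linter.unusedSectionVars false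

namespace Cfsg.Agent.Lib.OddOrder.Control

open Cfsg Subgroup Cfsg.Agent.Lib.Solvable.PSeries Cfsg.Agent.Lib.Basic.PCore
  Cfsg.Agent.Lib.Basic.SylowUtil
open scoped commutatorElement

section frattini

variable {N : Type*} [Group N] [Finite N] {p : ℕ} [hp : Fact p.Prime]

/-- A `p`-subgroup lies in a normal subgroup of `p'`-index. -/
theorem sylow_le_of_index_coprime {U : Subgroup N} [U.Normal] (hU : U.index.Coprime p)
    {S : Subgroup N} (hS : IsPGroup p S) : S ≤ U := by
  intro x hx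
  obtain ⟨k, hk⟩ := orderOf_eq_pow_of_isPGroup hS hx
  have h1 : x ^ U.index ∈ U := Subgroup.pow_index_mem U x
  have hc : (U.index).Coprime (orderOf x) := by
    rw [hk]
    exact Nat.Coprime.pow_right k hU
  obtain ⟨m, hm⟩ := exists_pow_eq_self_of_coprime hc
  rw [← hm]
  exact U.pow_mem h1 m

/-- `N = N_N(S) O_{p'}(N)` when `N` has `p`-length at most one and `S` is Sylow. -/
theorem exists_mul_of_pLength_one (h : PLengthLE p 1 N) (S : Sylow p N) (a : N) :
    ∃ m ∈ normalizer ((S : Subgroup N) : Set N), ∃ y ∈ pPrimeCore p N, a = m * y := by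
  have hU3 : (upperPSeries p N 3).1 = ⊤ := h
  have hidx := relIndex_upper (p := p) (G := N) 2
  have hcop : ((upperPSeries p N 2).1.index).Coprime p := by
    have : GoodIdx p 2 ((upperPSeries p N 2).1.relIndex (upperPSeries p N 3).1) := hidx
    rw [hU3, Subgroup.relIndex_top_right] at this
    simpa [GoodIdx] using this
  have hU2 : (upperPSeries p N 2).1 = pPrimePCore p N := upper_two
  rw [hU2] at hcop
  have : (pPrimePCore p N).Normal := by rw [← hU2]; infer_instance
  have hSU : (S : Subgroup N) ≤ pPrimePCore p N := sylow_le_of_index_coprime hcop S.2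
  obtain ⟨n, hn, t, ht, rfl⟩ := frattini_argument (N := pPrimePCore p N) S hSU a
  -- `n` is in `O_{p'}(N) S`
  let φ := QuotientGroup.mk' (pPrimeCore p N)
  have hφ : Function.Surjective φ := QuotientGroup.mk'_surjective _
  let S' : Sylow p (N ⧸ pPrimeCore p N) := S.mapSurjective hφ
  have hn' : φ n ∈ pCore p (N ⧸ pPrimeCore p N) := hn
  have hn'' : φ n ∈ (S' : Subgroup (N ⧸ pPrimeCore p N)) := pCore_le_sylow S' hn'
  have hS'eq : (S' : Subgroup (N ⧸ pPrimeCore p N)) = (S : Subgroup N).map φ := rfl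
  rw [hS'eq] at hn''
  obtain ⟨s, hs, hsn⟩ := hn''
  have hy : s⁻¹ * n ∈ pPrimeCore p N := by
    rw [← QuotientGroup.ker_mk' (pPrimeCore p N), MonoidHom.mem_ker, map_mul, map_inv]
    show (φ s)⁻¹ * φ n = 1
    rw [hsn]; simp
  have hsN : s ∈ normalizer ((S : Subgroup N) : Set N) := Subgroup.le_normalizer hs
  refine ⟨s * t, mul_mem hsN ht, t⁻¹ * (s⁻¹ * n) * t, ?_, by group⟩
  have := (inferInstance : (pPrimeCore p N).Normal).conj_mem _ hy t⁻¹
  simpa using this

end frattini

section centralize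

variable {G : Type*} [Group G] [Finite G] {p : ℕ} [hp : Fact p.Prime]

/-- `O_{p'}(N_G(T))` centralizes the `p`-subgroup `T`. -/
theorem pPrimeCore_normalizer_comm {T : Subgroup G} (hT : IsPGroup p T)
    {y : normalizer (T : Set G)} (hy : y ∈ pPrimeCore p (normalizer (T : Set G))) {t : G} (ht : t ∈ T) :
    (y : G) * t * (y : G)⁻¹ = t := by
  have htN : t ∈ normalizer (T : Set G) := Subgroup.le_normalizer ht
  -- the commutator lies in `T` and in `O_{p'}`
  have h1 : ⁅(y : G), t⁆ ∈ T := by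
    rw [commutatorElement_def]
    have := (Subgroup.mem_normalizer_iff.mp y.2 t).mp ht
    exact mul_mem this (inv_mem ht)
  have h2 : ⁅y, (⟨t, htN⟩ : normalizer (T : Set G))⁆ ∈ pPrimeCore p (normalizer (T : Set G)) := by
    rw [commutatorElement_def]
    have := (inferInstance : (pPrimeCore p (normalizer (T : Set G))).Normal).conj_mem _
      (inv_mem hy) ⟨t, htN⟩
    have e : y * ⟨t, htN⟩ * y⁻¹ * (⟨t, htN⟩ : normalizer (T : Set G))⁻¹ =
        y * (⟨t, htN⟩ * y⁻¹ * (⟨t, htN⟩ : normalizer (T : Set G))⁻¹) := by group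
    rw [e]
    exact mul_mem hy this
  set c := ⁅y, (⟨t, htN⟩ : normalizer (T : Set G))⁆ with hc
  have hcT : (c : G) ∈ T := by
    have : (c : G) = ⁅(y : G), t⁆ := rfl
    rw [this]; exact h1
  have hco : (Nat.card (pPrimeCore p (normalizer (T : Set G)))).Coprime p := pPrimeCore_coprime p
  obtain ⟨k, hk⟩ := orderOf_eq_pow_of_isPGroup hT hcT
  have hord : orderOf c ∣ Nat.card (pPrimeCore p (normalizer (T : Set G))) := by
    have : orderOf (⟨c, h2⟩ : pPrimeCore p (normalizer (T : Set G))) =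
        orderOf c := Subgroup.orderOf_mk c h2
    rw [← this]
    exact orderOf_dvd_natCard _
  have hc1 : c = 1 := by
    have h3 : orderOf c = orderOf (c : G) := (Subgroup.orderOf_coe c).symm
    rw [h3, hk] at hord
    have : p ^ k = 1 := by
      exact Nat.Coprime.eq_one_of_dvd (Nat.Coprime.pow_left k hco.symm) hord
    rw [← orderOf_eq_one_iff, h3, hk, this]
  have h4 : ⁅(y : G), t⁆ = 1 := by
    have : (c : G) = ⁅(y : G), t⁆ := rfl
    rw [← this, hc1]; rfl
  rw [commutatorElement_def] at h4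
  calc (y : G) * t * (y : G)⁻¹ = ((y : G) * t * (y : G)⁻¹ * t⁻¹) * t := by group
    _ = t := by rw [h4, one_mul]

/-- Normal `p`-subgroups in a normalizer lie in all Sylow subgroups. -/
theorem le_sylow_normalizer {T : Subgroup G} (hT : IsPGroup p T) (S : Sylow p (normalizer (T : Set G))) :
    T ≤ (S : Subgroup (normalizer (T : Set G))).map (normalizer (T : Set G)).subtype := by
  intro t ht
  have htN : t ∈ normalizer (T : Set G) := Subgroup.le_normalizer ht
  refine ⟨⟨t, htN⟩, ?_, rfl⟩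
  have hN : (T.subgroupOf (normalizer (T : Set G))).Normal := by
    refine ⟨fun n hn g => ?_⟩
    rw [Subgroup.mem_subgroupOf] at hn ⊢
    have := (Subgroup.mem_normalizer_iff.mp g.2 _).mp hn
    simpa using this
  have hp' : IsPGroup p (T.subgroupOf (normalizer (T : Set G))) := hT.comap_subtype
  have := le_pCore hN hp'
  exact pCore_le_sylow S (this (Subgroup.mem_subgroupOf.mpr ht))

end centralize

section control

variable {G : Type*} [Group G] [Finite G] {p : ℕ} [hp : Fact p.Prime]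

/-- Hypothesis: all normalizers of nontrivial `p`-subgroups have `p`-length at most one. -/
def LocalLen (p : ℕ) (G : Type*) [Group G] : Prop :=
  ∀ T : Subgroup G, IsPGroup p T → T ≠ ⊥ → PLengthLE p 1 (normalizer (T : Set G))

/-- **Fusion control**, element-wise on a subgroup. -/
theorem fusion_control (hN : LocalLen p G) (P : Sylow p G) :
    ∀ (n : ℕ) (T : Subgroup G), T ≤ (P : Subgroup G) →
      Nat.card (P : Subgroup G) - Nat.card T = n → ∀ g : G,
        (∀ t ∈ T, g * t * g⁻¹ ∈ (P : Subgroup G)) →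
          ∃ u ∈ normalizer ((P : Subgroup G) : Set G), ∀ t ∈ T, g * t * g⁻¹ = u * t * u⁻¹ := by
  intro n
  induction n using Nat.strong_induction_on with
  | _ n ih =>
    intro T hTP hn g hg
    by_cases hTe : T = (P : Subgroup G)
    · subst hTe
      refine ⟨g, ?_, fun t _ => rfl⟩
      exact Cfsg.Agent.Lib.Transfer.Frobenius.mem_normalizer_of_conj_mem hg
    by_cases hTb : T = ⊥
    · subst hTb
      refine ⟨1, one_mem _, fun t ht => ?_⟩
      rw [Subgroup.mem_bot.mp ht]; simp
    have hTlt : T < (P : Subgroup G) := lt_of_le_of_ne hTP hTe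
    have hTp : IsPGroup p T := P.2.to_le hTP
    -- fix a Sylow subgroup of `N(T)` and a conjugator `h` into `P`
    obtain ⟨S₀⟩ : Nonempty (Sylow p (normalizer (T : Set G))) := inferInstance
    set Q : Subgroup G := (S₀ : Subgroup (normalizer (T : Set G))).map (normalizer (T : Set G)).subtype with hQ
    have hQp : IsPGroup p Q := S₀.2.map _
    obtain ⟨h, hh⟩ := Cfsg.Agent.Lib.Transfer.Frobenius.exists_conj_mem_of_isPGroup P hQp
    have hTQ : T ≤ Q := le_sylow_normalizer hTp S₀
    -- key: any `g` with `gTg⁻¹ ≤ P` agrees with `h` on `T` up to `N(P)`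
    have key : ∀ g : G, (∀ t ∈ T, g * t * g⁻¹ ∈ (P : Subgroup G)) →
        ∃ u ∈ normalizer ((P : Subgroup G) : Set G), ∀ t ∈ T,
          h * t * h⁻¹ = u * (g * t * g⁻¹) * u⁻¹ := by
      intro g hg
      set T' : Subgroup G := T.map (MulAut.conj g).toMonoidHom with hT'
      have hT'P : T' ≤ (P : Subgroup G) := by
        rintro _ ⟨t, ht, rfl⟩
        exact hg t ht
      have hT'lt : T' < (P : Subgroup G) := by
        refine lt_of_le_of_ne hT'P fun e => ?_
        apply hTe
        apply Subgroup.eq_of_le_of_card_ge hTP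
        rw [← e, hT', Subgroup.card_map_of_injective (MulAut.conj g).injective]
      have hXlt := Cfsg.Agent.Lib.Transfer.Frobenius.lt_inf_normalizer P.2 hT'lt
      set X : Subgroup G := (P : Subgroup G) ⊓ normalizer (T' : Set G) with hX
      -- `g⁻¹ X g` is a `p`-subgroup of `N(T)`
      have hXmem : ∀ x ∈ X, g⁻¹ * x * g ∈ normalizer (T : Set G) := by
        intro x hx
        rw [Subgroup.mem_normalizer_iff]
        intro t
        have hxN := Subgroup.mem_normalizer_iff.mp hx.2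
        constructor
        · intro ht
          have h1 : g * t * g⁻¹ ∈ T' := ⟨t, ht, rfl⟩
          have h2 := (hxN _).mp h1
          obtain ⟨t', ht', he⟩ := h2
          have he' : g * t' * g⁻¹ = x * (g * t * g⁻¹) * x⁻¹ := he
          have : g⁻¹ * x * g * t * (g⁻¹ * x * g)⁻¹ = t' := by
            calc g⁻¹ * x * g * t * (g⁻¹ * x * g)⁻¹ = g⁻¹ * (x * (g * t * g⁻¹) * x⁻¹) * g := by group
              _ = g⁻¹ * (g * t' * g⁻¹) * g := by rw [he']
              _ = t' := by group
          rw [this]; exact ht'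
        · intro ht
          have h1 : g * (g⁻¹ * x * g * t * (g⁻¹ * x * g)⁻¹) * g⁻¹ ∈ T' := ⟨_, ht, rfl⟩
          have h2 : x * (g * t * g⁻¹) * x⁻¹ ∈ T' := by
            have e : g * (g⁻¹ * x * g * t * (g⁻¹ * x * g)⁻¹) * g⁻¹ = x * (g * t * g⁻¹) * x⁻¹ := by group
            rwa [e] at h1
          have h3 := (hxN _).mpr h2
          obtain ⟨t', ht', he⟩ := h3
          have he' : g * t' * g⁻¹ = g * t * g⁻¹ := he
          have : t' = t := by simpa using he'
          rw [← this]; exact ht'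
      -- the subgroup `g⁻¹ X g` inside `N(T)`
      let W : Subgroup G := X.map (MulAut.conj g⁻¹).toMonoidHom
      have hWp : IsPGroup p W := (P.2.to_le inf_le_left).map _
      have hWN : W ≤ normalizer (T : Set G) := by
        rintro _ ⟨x, hx, rfl⟩
        have : (MulAut.conj g⁻¹).toMonoidHom x = g⁻¹ * x * g := by simp
        rw [this]; exact hXmem x hx
      have hWp' : IsPGroup p (W.subgroupOf (normalizer (T : Set G))) := hWp.comap_subtype
      obtain ⟨S₁, hS₁⟩ := hWp'.exists_le_sylow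
      obtain ⟨a, ha⟩ := MulAction.exists_smul_eq (normalizer (T : Set G)) S₁ S₀
      have hnT : T ≠ ⊥ := hTb
      obtain ⟨m, hm, y, hy, hay⟩ := exists_mul_of_pLength_one (hN T hTp hTb) S₀ a
      -- `y` sends `W` into `Q`
      have hyW : ∀ w ∈ W, (y : G) * w * (y : G)⁻¹ ∈ Q := by
        intro w hw
        have hwN : w ∈ normalizer (T : Set G) := hWN hw
        have h1 : (⟨w, hwN⟩ : normalizer (T : Set G)) ∈ (S₁ : Subgroup (normalizer (T : Set G))) :=
          hS₁ (Subgroup.mem_subgroupOf.mpr hw)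
        have h2 : a * ⟨w, hwN⟩ * a⁻¹ ∈ (S₀ : Subgroup (normalizer (T : Set G))) := by
          rw [← ha, Sylow.coe_subgroup_smul]
          exact Subgroup.smul_mem_pointwise_smul (⟨w, hwN⟩ : normalizer (T : Set G)) (MulAut.conj a) _ h1
        have h3 : y * ⟨w, hwN⟩ * y⁻¹ ∈ (S₀ : Subgroup (normalizer (T : Set G))) := by
          rw [Subgroup.mem_normalizer_iff.mp hm]
          have e : m * (y * ⟨w, hwN⟩ * y⁻¹) * m⁻¹ = a * ⟨w, hwN⟩ * a⁻¹ := by rw [hay]; group
          rw [e]; exact h2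
        exact ⟨_, h3, rfl⟩
      set g₂ : G := h * (y : G) * g⁻¹ with hg₂
      have hg₂X : ∀ x ∈ X, g₂ * x * g₂⁻¹ ∈ (P : Subgroup G) := by
        intro x hx
        have hw : g⁻¹ * x * g ∈ W := ⟨x, hx, by simp⟩
        have := hh _ (hyW _ hw)
        have e : g₂ * x * g₂⁻¹ = h * ((y : G) * (g⁻¹ * x * g) * (y : G)⁻¹) * h⁻¹ := by
          rw [hg₂]; group
        rw [e]; exact this
      have hcard : Nat.card T' = Nat.card T := by
        rw [hT', Subgroup.card_map_of_injective (MulAut.conj g).injective]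
      have hlt1 := Cfsg.Agent.Lib.Transfer.Frobenius.card_lt_of_lt hXlt
      have hlt2 := Cfsg.Agent.Lib.Transfer.Frobenius.card_lt_of_lt hTlt
      obtain ⟨u, hu, hue⟩ := ih (Nat.card (P : Subgroup G) - Nat.card X) (by omega) X inf_le_left rfl
        g₂ hg₂X
      refine ⟨u, hu, fun t ht => ?_⟩
      have hx : g * t * g⁻¹ ∈ X := hXlt.le ⟨t, ht, rfl⟩
      have e := hue _ hx
      rw [← e, hg₂]
      have hc := pPrimeCore_normalizer_comm hTp hy ht
      calc h * t * h⁻¹ = h * ((y : G) * t * (y : G)⁻¹) * h⁻¹ := by rw [hc]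
        _ = h * (y : G) * g⁻¹ * (g * t * g⁻¹) * (h * (y : G) * g⁻¹)⁻¹ := by group
    obtain ⟨u₁, hu₁, h1⟩ := key g hg
    obtain ⟨u₂, hu₂, h2⟩ := key 1 (fun t ht => by simpa using hTP ht)
    refine ⟨u₁⁻¹ * u₂, mul_mem (inv_mem hu₁) hu₂, fun t ht => ?_⟩
    have e1 := h1 t ht
    have e2 := h2 t ht
    simp only [one_mul, inv_one, mul_one] at e2
    calc g * t * g⁻¹ = u₁⁻¹ * (u₁ * (g * t * g⁻¹) * u₁⁻¹) * u₁ := by group
      _ = u₁⁻¹ * (h * t * h⁻¹) * u₁ := by rw [e1]
      _ = u₁⁻¹ * (u₂ * t * u₂⁻¹) * u₁ := by rw [e2]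
      _ = u₁⁻¹ * u₂ * t * (u₁⁻¹ * u₂)⁻¹ := by group

/-- Element form of fusion control. -/
theorem fusion_element (hN : LocalLen p G) (P : Sylow p G) {x g : G}
    (hx : x ∈ (P : Subgroup G)) (hg : g * x * g⁻¹ ∈ (P : Subgroup G)) :
    ∃ u ∈ normalizer ((P : Subgroup G) : Set G), g * x * g⁻¹ = u * x * u⁻¹ := by
  have hle : zpowers x ≤ (P : Subgroup G) := zpowers_le.mpr hx
  have hall : ∀ q ∈ zpowers x, g * q * g⁻¹ ∈ (P : Subgroup G) := by
    rintro _ ⟨k, rfl⟩
    have e : g * (fun n : ℤ => x ^ n) k * g⁻¹ = (g * x * g⁻¹) ^ k := by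
      simp only
      rw [← conj_zpow]
    rw [e]
    exact zpow_mem hg k
  obtain ⟨u, hu, h⟩ := fusion_control hN P _ _ hle rfl g hall
  exact ⟨u, hu, h x (mem_zpowers x)⟩

/-- Subgroup form of fusion control. -/
theorem map_conj_eq (hN : LocalLen p G) (P : Sylow p G) {Q : Subgroup G} {g : G}
    (hQ : Q ≤ (P : Subgroup G)) (hg : Q.map (MulAut.conj g).toMonoidHom ≤ (P : Subgroup G)) :
    ∃ u ∈ normalizer ((P : Subgroup G) : Set G),
      Q.map (MulAut.conj g).toMonoidHom = Q.map (MulAut.conj u).toMonoidHom := by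
  obtain ⟨u, hu, h⟩ := fusion_control hN P _ Q hQ rfl g (fun t ht => hg ⟨t, ht, rfl⟩)
  refine ⟨u, hu, ?_⟩
  ext x
  constructor
  · rintro ⟨t, ht, rfl⟩
    exact ⟨t, ht, by simpa using (h t ht).symm⟩
  · rintro ⟨t, ht, rfl⟩
    exact ⟨t, ht, by simpa using h t ht⟩

/-- Clause (d): `N_P(Q)` is Sylow in `N_G(Q)`. -/
theorem not_dvd_relIndex (hN : LocalLen p G) (P : Sylow p G) {Q : Subgroup G}
    (hQ : Q ≤ (P : Subgroup G)) :
    ¬ p ∣ ((P : Subgroup G) ⊓ normalizer (Q : Set G)).relIndex (normalizer (Q : Set G)) := by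
  obtain ⟨S₀⟩ : Nonempty (Sylow p (normalizer (Q : Set G))) := inferInstance
  have hQp : IsPGroup p Q := P.2.to_le hQ
  set R : Subgroup G := (S₀ : Subgroup (normalizer (Q : Set G))).map (normalizer (Q : Set G)).subtype with hR
  have hRp : IsPGroup p R := S₀.2.map _
  obtain ⟨h, hh⟩ := Cfsg.Agent.Lib.Transfer.Frobenius.exists_conj_mem_of_isPGroup P hRp
  have hQR : Q ≤ R := le_sylow_normalizer hQp S₀
  obtain ⟨u, hu, hue⟩ := fusion_control hN P _ Q hQ rfl h (fun t ht => hh t (hQR ht))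
  -- `c = u⁻¹ h` centralizes `Q`
  set c : G := u⁻¹ * h with hc
  have hcQ : ∀ t ∈ Q, c * t * c⁻¹ = t := by
    intro t ht
    have := hue t ht
    calc c * t * c⁻¹ = u⁻¹ * (h * t * h⁻¹) * u := by rw [hc]; group
      _ = u⁻¹ * (u * t * u⁻¹) * u := by rw [this]
      _ = t := by group
  have hcN : c ∈ normalizer (Q : Set G) := by
    apply Cfsg.Agent.Lib.Transfer.Frobenius.mem_normalizer_of_conj_mem
    intro t ht
    rw [hcQ t ht]; exact ht
  -- `c` moves `S₀` into `P`
  set c' : normalizer (Q : Set G) := ⟨c, hcN⟩ with hc'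
  have hle : ((c' • S₀ : Sylow p (normalizer (Q : Set G))) : Subgroup (normalizer (Q : Set G))) ≤
      ((P : Subgroup G) ⊓ normalizer (Q : Set G)).subgroupOf (normalizer (Q : Set G)) := by
    intro x hx
    rw [Sylow.coe_subgroup_smul, Subgroup.mem_smul_pointwise_iff_exists] at hx
    obtain ⟨s, hs, rfl⟩ := hx
    rw [Subgroup.mem_subgroupOf]
    refine ⟨?_, (MulAut.conj c' • s).2⟩
    have h1 : h * (s : G) * h⁻¹ ∈ (P : Subgroup G) := hh _ ⟨s, hs, rfl⟩
    have hui : u⁻¹ ∈ normalizer ((P : Subgroup G) : Set G) := inv_mem hu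
    have h2 := (Subgroup.mem_normalizer_iff.mp hui _).mp h1
    have e : (((MulAut.conj c' • s : normalizer (Q : Set G))) : G) =
        u⁻¹ * (h * (s : G) * h⁻¹) * u⁻¹⁻¹ := by
      show c * (s : G) * c⁻¹ = _
      rw [hc]; group
    rw [e]; exact h2
  intro hdvd
  have hdvd' : p ∣ (((c' • S₀ : Sylow p (normalizer (Q : Set G))) : Subgroup (normalizer (Q : Set G)))).index := by
    refine hdvd.trans ?_
    rw [Subgroup.relIndex]
    exact Subgroup.index_dvd_of_le hle
  exact (c' • S₀ : Sylow p (normalizer (Q : Set G))).not_dvd_index hdvd'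

/-- Clause (e). -/
theorem normalizer_le_normalizer (hN : LocalLen p G) (P : Sylow p G) {R Q : Subgroup G}
    (hR : IsPGroup p R) (hQ : Q ≤ (P : Subgroup G) ⊓ R)
    (hNQ : normalizer ((P : Subgroup G) : Set G) ≤ normalizer (Q : Set G)) :
    normalizer (R : Set G) ≤ normalizer (Q : Set G) := by
  intro g hg
  obtain ⟨hQ1, hQ2⟩ := le_inf_iff.mp hQ
  -- a Sylow containing `R`, conjugate to `P`
  obtain ⟨P', hP'⟩ := hR.exists_le_sylow
  obtain ⟨a, ha⟩ := Cfsg.Agent.Lib.Transfer.Frobenius.exists_conj_mem_of_isPGroup P P'.2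
  -- `a` normalizes... `a Q a⁻¹ ≤ P`, so it is `Q`.
  have hconj : ∀ b : G, (∀ q ∈ Q, b * q * b⁻¹ ∈ (P : Subgroup G)) → b ∈ normalizer (Q : Set G) := by
    intro b hb
    obtain ⟨u, hu, hue⟩ := fusion_control hN P _ Q hQ1 rfl b hb
    apply Cfsg.Agent.Lib.Transfer.Frobenius.mem_normalizer_of_conj_mem
    intro q hq
    rw [hue q hq]
    exact (Subgroup.mem_normalizer_iff.mp (hNQ hu) q).mp hq
  have hQP' : Q ≤ (P' : Subgroup G) := le_trans hQ2 hP'
  have haN : a ∈ normalizer (Q : Set G) := hconj a (fun q hq => ha q (hQP' hq))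
  have hgR : ∀ q ∈ Q, g * q * g⁻¹ ∈ (P' : Subgroup G) := fun q hq =>
    hP' ((Subgroup.mem_normalizer_iff.mp hg q).mp (hQ2 hq))
  have h1 : a * g ∈ normalizer (Q : Set G) := by
    apply hconj
    intro q hq
    have := ha _ (hgR q hq)
    have e : a * g * q * (a * g)⁻¹ = a * (g * q * g⁻¹) * a⁻¹ := by group
    rw [e]; exact this
  have := mul_mem (inv_mem haN) h1
  simpa using this

end control

end Cfsg.Agent.Lib.OddOrder.Control
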