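import Mathlib
import Cfsg.Agent.Lib.OddOrder.PF11C
import Cfsg.Agent.Lib.OddOrder.PF9RE

/-!
# The rigid family of a rigid pair satisfies `PF11.EtaHyp`.
-/

set_option autoImplicit false

namespace Cfsg.Agent.Lib.OddOrder.PF11

open Cfsg Subgroup
open Cfsg.Agent.Lib.OddOrder.PF9Row

universe u

variable {G : Type u} [Group G] [Fintype G] {S T W₁ W₂ U V : Subgroup G}

/-- The `RigidEta` of a `RigidPair` satisfies `EtaHyp`. -/
theorem _root_.Cfsg.Agent.Lib.OddOrder.PF9Row.RigidPair.etaHyp (P : RigidPair S T W₁ W₂ U V) :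
    EtaHyp (T := T) P.h P.F P.R :=
  ⟨rfl, fun _ hx => mem_calWset.mp hx, fun _ hx => mem_sharpOf.mp hx, fun _ hx => mem_sharpOf.mp hx⟩

end Cfsg.Agent.Lib.OddOrder.PF11
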