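/-
Theorem R (helper24) with section A (helper55) plugged in.
-/
import Cfsg.Agent.Lib.OddOrder.PF9Core
import Cfsg.Agent.Lib.OddOrder.PFA17

set_option autoImplicit false

namespace Cfsg.Agent.Lib.OddOrder.PF9Row

open Cfsg Cfsg.Agent.Lib.OddOrder.PF9Iface

variable {G : Type*} [Group G]

/-- **Theorem R**: two type P subgroups with prime `W₁, W₂`, with TI Fitting subgroups that are
disjoint up to conjugacy, are rigid. -/
theorem R_final [Fintype G] (hodd : Odd (Nat.card G)) {S T W₁ W₂ U V : Subgroup G}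
    (hS : IsTypePWith S W₁ U W₂) (hT : IsTypePWith T W₂ V W₁)
    (hq : (Nat.card W₁).Prime) (hp : (Nat.card W₂).Prime) (hU : U ≠ ⊥) (hV : V ≠ ⊥)
    (hTI_S : ∀ g : G, ∀ k ∈ fittingOf S, k ≠ 1 → g * k * g⁻¹ ∈ fittingOf S → g ∈ S)
    (hTI_T : ∀ g : G, ∀ k ∈ fittingOf T, k ≠ 1 → g * k * g⁻¹ ∈ fittingOf T → g ∈ T)
    (FD : ∀ k ∈ fittingOf S, k ≠ 1 → ∀ y : G, y * k * y⁻¹ ∉ fittingOf T) :
    Rigid S W₁ U W₂ ∧ Rigid T W₂ V W₁ := by
  have hoddof : ∀ A : Subgroup G, Odd (Nat.card A) := fun A =>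
    Odd.of_dvd_nat hodd (Subgroup.card_subgroup_dvd_card A)
  obtain ⟨dS⟩ := PFA.nonempty_sideData_of_typeP hS hp hq hU (hoddof S)
  obtain ⟨dT⟩ := PFA.nonempty_sideData_of_typeP hT hq hp hV (hoddof T)
  exact R_core hodd hS hT hq hp hTI_S hTI_T FD dS dT

end Cfsg.Agent.Lib.OddOrder.PF9Row
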