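/-
PF section 9 (helper7): abstract form of the two cases of "no Type V", and the same sum rule for
sections 8 and 11.  All statements are about orthonormal families of class functions.
See wip/oddorder/PF_E_helper7.md part D.
-/
import Mathlib
import Cfsg.Prelude.Def_Characters
import Cfsg.Agent.Lib.Char.Coherence
import Cfsg.Agent.Lib.Char.Ortho
import Cfsg.Agent.Lib.OddOrder.PFE1

set_option autoImplicit false
open scoped ComplexConjugate BigOperators
open Finset

namespace Cfsg.Agent.Lib.OddOrder.PFE2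

open Cfsg Cfsg.Agent.Lib.Char.Coherence Cfsg.Agent.Lib.OddOrder.PFE1
open Cfsg.Agent.Lib.Char.Ortho (classInner_add_left classInner_add_right classInner_smul_left
  classInner_smul_right classInner_sum_left classInner_sum_right classInner_sub_left
  classInner_sub_right classInner_conj_symm)

variable {G : Type*} [Group G] [Fintype G] {I J Ξ : Type*}
  [Fintype I] [Fintype J] [Fintype Ξ] [DecidableEq I] [DecidableEq J] [DecidableEq Ξ]

/-- The inner product data of `Ψ` against the cyclic TI family `η` and a same-degree family `ψ`.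
`x, y, t = x + y - 1` are the coefficients of `Ψ` on `η k 0`, `η 0 l`, `η k l`; `b` on `ψ ξ`. -/
structure PsiData (i0 : I) (j0 : J) (η : I → J → G → ℂ) (ψ : Ξ → G → ℂ) (Ψ : G → ℂ)
    (x y b : ℤ) : Prop where
  eta : ∀ k l k' l', classInner (η k l) (η k' l') = if k = k' ∧ l = l' then 1 else 0
  psi : ∀ ξ ξ', classInner (ψ ξ) (ψ ξ') = if ξ = ξ' then 1 else 0
  psi_eta : ∀ ξ k l, classInner (ψ ξ) (η k l) = 0
  v00 : classInner Ψ (η i0 j0) = 1
  vk0 : ∀ k, k ≠ i0 → classInner Ψ (η k j0) = x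
  v0l : ∀ l, l ≠ j0 → classInner Ψ (η i0 l) = y
  vkl : ∀ k l, k ≠ i0 → l ≠ j0 → classInner Ψ (η k l) = x + y - 1
  vb : ∀ ξ, classInner Ψ (ψ ξ) = b
  norm : classInner Ψ Ψ = (Fintype.card J : ℂ) + 2 * b

variable {i0 : I} {j0 : J} {η : I → J → G → ℂ} {ψ : Ξ → G → ℂ} {Ψ : G → ℂ} {x y b : ℤ}

/-- The coefficient of `Ψ` on the family `(η, ψ)`. -/
def coef (i0 : I) (j0 : J) (x y b : ℤ) : (I × J) ⊕ Ξ → ℤ
  | Sum.inl (k, l) =>
      if k = i0 then (if l = j0 then 1 else y) else (if l = j0 then x else x + y - 1)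
  | Sum.inr _ => b

/-- The sum rule. -/
theorem sum_rule (h : PsiData i0 j0 η ψ Ψ x y b) :
    1 + ((Fintype.card I : ℤ) - 1) * x ^ 2 + ((Fintype.card J : ℤ) - 1) * y ^ 2
      + ((Fintype.card I : ℤ) - 1) * ((Fintype.card J : ℤ) - 1) * (x + y - 1) ^ 2
      + (Fintype.card Ξ : ℤ) * b ^ 2 ≤ (Fintype.card J : ℤ) + 2 * b := by
  classical
  let g : (I × J) ⊕ Ξ → G → ℂ := fun α => match α with
    | Sum.inl (k, l) => η k l
    | Sum.inr ξ => ψ ξ
  have hortho : ∀ α ∈ (Finset.univ : Finset ((I × J) ⊕ Ξ)), ∀ β ∈ (Finset.univ : Finset ((I × J) ⊕ Ξ)),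
      α ≠ β → classInner (g α) (g β) = 0 := by
    intro α _ β _ hne
    rcases α with ⟨k, l⟩ | ξ <;> rcases β with ⟨k', l'⟩ | ξ'
    · show classInner (η k l) (η k' l') = 0
      rw [h.eta, if_neg]
      rintro ⟨rfl, rfl⟩
      exact hne rfl
    · show classInner (η k l) (ψ ξ') = 0
      have h1 := h.psi_eta ξ' k l
      have h2 : classInner (η k l) (ψ ξ') = conj (classInner (ψ ξ') (η k l)) := by
        exact (classInner_conj_symm _ _).symm
      rw [h2, h1, map_zero]
    · show classInner (ψ ξ) (η k' l') = 0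
      exact h.psi_eta ξ k' l'
    · show classInner (ψ ξ) (ψ ξ') = 0
      rw [h.psi, if_neg]
      rintro rfl
      exact hne rfl
  have hn : ∀ α ∈ (Finset.univ : Finset ((I × J) ⊕ Ξ)), classInner (g α) (g α) = ((1 : ℝ) : ℂ) := by
    intro α _
    rcases α with ⟨k, l⟩ | ξ
    · show classInner (η k l) (η k l) = _
      rw [h.eta, if_pos ⟨rfl, rfl⟩]; simp
    · show classInner (ψ ξ) (ψ ξ) = _
      rw [h.psi, if_pos rfl]; simp
  have hb := bessel (Finset.univ : Finset ((I × J) ⊕ Ξ)) Ψ g hortho (fun _ => (1 : ℝ)) hn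
    (fun _ _ => one_pos)
  have hval : ∀ α, classInner Ψ (g α) = ((coef i0 j0 x y b α : ℤ) : ℂ) := by
    intro α
    rcases α with ⟨k, l⟩ | ξ
    · show classInner Ψ (η k l) = ((coef i0 j0 x y b (Sum.inl (k, l)) : ℤ) : ℂ)
      simp only [coef]
      by_cases hk : k = i0 <;> by_cases hl : l = j0
      · subst hk; subst hl; simp [h.v00]
      · subst hk; simp [hl, h.v0l l hl]
      · subst hl; simp [hk, h.vk0 k hk]
      · simp [hk, hl, h.vkl k l hk hl]
    · exact h.vb ξ
  have hnormre : (classInner Ψ Ψ).re = (Fintype.card J : ℝ) + 2 * b := by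
    rw [h.norm]
    simp
  rw [hnormre] at hb
  have hsum : ∑ α : (I × J) ⊕ Ξ, ‖classInner Ψ (g α)‖ ^ 2 / (1 : ℝ) =
      (((∑ α : (I × J) ⊕ Ξ, (coef i0 j0 x y b α) ^ 2 : ℤ)) : ℝ) := by
    push_cast
    refine Finset.sum_congr rfl fun α _ => ?_
    rw [hval, div_one, Complex.norm_intCast, sq_abs]
  rw [hsum] at hb
  have hb' : (∑ α : (I × J) ⊕ Ξ, (coef i0 j0 x y b α) ^ 2 : ℤ) ≤ (Fintype.card J : ℤ) + 2 * b := by
    exact_mod_cast hb
  -- compute the sum
  have hc : (∑ α : (I × J) ⊕ Ξ, (coef i0 j0 x y b α) ^ 2 : ℤ) =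
      1 + ((Fintype.card I : ℤ) - 1) * x ^ 2 + ((Fintype.card J : ℤ) - 1) * y ^ 2
      + ((Fintype.card I : ℤ) - 1) * ((Fintype.card J : ℤ) - 1) * (x + y - 1) ^ 2
      + (Fintype.card Ξ : ℤ) * b ^ 2 := by
    rw [Fintype.sum_sum_type, Fintype.sum_prod_type]
    simp only [coef]
    have h1 : ∀ k : I, (∑ l : J, (if k = i0 then (if l = j0 then (1 : ℤ) else y) else
        (if l = j0 then x else x + y - 1)) ^ 2) =
        (if k = i0 then (1 + ((Fintype.card J : ℤ) - 1) * y ^ 2) else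
          (x ^ 2 + ((Fintype.card J : ℤ) - 1) * (x + y - 1) ^ 2)) := by
      intro k
      have hsplit : ∀ F : J → ℤ, ∑ l, F l = F j0 + ∑ l ∈ Finset.univ.erase j0, F l := fun F =>
        (Finset.add_sum_erase _ _ (Finset.mem_univ _)).symm
      rw [hsplit]
      have hcard : (Finset.univ.erase j0).card = Fintype.card J - 1 := by
        rw [Finset.card_erase_of_mem (Finset.mem_univ _), Finset.card_univ]
      have hpos : 1 ≤ Fintype.card J := Fintype.card_pos_iff.mpr ⟨j0⟩
      by_cases hk : k = i0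
      · simp only [hk, if_true]
        rw [Finset.sum_congr rfl (g := fun _ => y ^ 2)]
        · simp only [Finset.sum_const, hcard, nsmul_eq_mul, Nat.cast_sub hpos, Nat.cast_one]
          ring
        · intro l hl
          rw [if_neg (Finset.ne_of_mem_erase hl)]
      · simp only [hk, if_false, if_true]
        rw [Finset.sum_congr rfl (g := fun _ => (x + y - 1) ^ 2)]
        · simp only [Finset.sum_const, hcard, nsmul_eq_mul, Nat.cast_sub hpos, Nat.cast_one]
        · intro l hl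
          rw [if_neg (Finset.ne_of_mem_erase hl)]
    simp_rw [h1]
    have hsplit : ∀ F : I → ℤ, ∑ k, F k = F i0 + ∑ k ∈ Finset.univ.erase i0, F k := fun F =>
      (Finset.add_sum_erase _ _ (Finset.mem_univ _)).symm
    rw [hsplit]
    have hcard : (Finset.univ.erase i0).card = Fintype.card I - 1 := by
      rw [Finset.card_erase_of_mem (Finset.mem_univ _), Finset.card_univ]
    have hpos : 1 ≤ Fintype.card I := Fintype.card_pos_iff.mpr ⟨i0⟩
    rw [if_pos rfl, Finset.sum_congr rfl (g := fun _ => x ^ 2 + ((Fintype.card J : ℤ) - 1) * (x + y - 1) ^ 2)]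
    · simp only [Finset.sum_const, hcard, nsmul_eq_mul, Nat.cast_sub hpos, Nat.cast_one,
        Finset.card_univ]
      ring
    · intro k hk
      rw [if_neg (Finset.ne_of_mem_erase hk)]
  rw [hc] at hb'
  exact hb'

/-- Arithmetic of the sum rule when `Ξ` has at least 2 elements. -/
theorem t_eq_zero {q p s : ℤ} {x y b : ℤ} (hq : 3 ≤ q) (hp : 3 ≤ p) (hs : 2 ≤ s)
    (h : 1 + (q - 1) * x ^ 2 + (p - 1) * y ^ 2 + (q - 1) * (p - 1) * (x + y - 1) ^ 2 + s * b ^ 2
      ≤ p + 2 * b) : x + y - 1 = 0 := by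
  by_contra ht
  have ht2 : 1 ≤ (x + y - 1) ^ 2 := by
    have : 0 < (x + y - 1) ^ 2 := by positivity
    omega
  have h1 : 0 ≤ (q - 1) * x ^ 2 := by
    apply mul_nonneg (by linarith) (by positivity)
  have h2 : 0 ≤ (p - 1) * y ^ 2 := by
    apply mul_nonneg (by linarith) (by positivity)
  have h3 : (q - 1) * (p - 1) * 1 ≤ (q - 1) * (p - 1) * (x + y - 1) ^ 2 := by
    apply mul_le_mul_of_nonneg_left ht2
    apply mul_nonneg <;> linarith
  have h4 : 2 * b ≤ s * b ^ 2 := by
    have h5 : 2 * b ≤ 2 * b ^ 2 := by nlinarith [sq_nonneg (b - 1), sq_nonneg b]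
    have h6 : 2 * b ^ 2 ≤ s * b ^ 2 := by
      apply mul_le_mul_of_nonneg_right hs (by positivity)
    linarith
  nlinarith

/-- `q > p` and a big family: `(x, y, b) = (0, 1, 0)`. -/
theorem cases_large {q p s : ℤ} {x y b : ℤ} (hq : 3 ≤ q) (hp : 3 ≤ p) (hpq : p < q)
    (hs : p + 2 ≤ s)
    (h : 1 + (q - 1) * x ^ 2 + (p - 1) * y ^ 2 + (q - 1) * (p - 1) * (x + y - 1) ^ 2 + s * b ^ 2
      ≤ p + 2 * b) : x = 0 ∧ y = 1 ∧ b = 0 := by
  have ht := t_eq_zero hq hp (by linarith) h
  rw [ht] at h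
  have h1 : 0 ≤ (q - 1) * x ^ 2 := by
    apply mul_nonneg (by linarith) (by positivity)
  have h2 : 0 ≤ (p - 1) * y ^ 2 := by
    apply mul_nonneg (by linarith) (by positivity)
  have hb : b = 0 := by
    by_contra hb
    have hb2 : 1 ≤ b ^ 2 := by
      have : 0 < b ^ 2 := by positivity
      omega
    have h5 : 2 * b ≤ 2 * b ^ 2 := by nlinarith [sq_nonneg (b - 1), sq_nonneg b]
    have h6 : (p + 2) * b ^ 2 ≤ s * b ^ 2 := by
      apply mul_le_mul_of_nonneg_right hs (by positivity)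
    nlinarith
  subst hb
  simp only [mul_zero, add_zero, ne_eq, zero_pow, OfNat.ofNat_ne_zero, not_false_eq_true] at h
  have hx : x = 0 := by
    by_contra hx
    have hx2 : 1 ≤ x ^ 2 := by
      have : 0 < x ^ 2 := by positivity
      omega
    have h7 : (q - 1) * 1 ≤ (q - 1) * x ^ 2 := by
      apply mul_le_mul_of_nonneg_left hx2 (by linarith)
    nlinarith
  refine ⟨hx, by omega, rfl⟩

variable {Ψ : G → ℂ}

lemma classInner_self_re_eq_nrm (a : G → ℂ) : (classInner a a).re = nrm a := by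
  rw [classInner_self]; simp

/-- `E k := Σ_l η k l`. -/
noncomputable def Erow (η : I → J → G → ℂ) (k : I) : G → ℂ := ∑ l, η k l

/-- Inner products of `E`. -/
lemma classInner_Erow (hη : ∀ k l k' l', classInner (η k l) (η k' l') = if k = k' ∧ l = l' then 1 else 0)
    (k k' : I) : classInner (Erow η k) (Erow η k') =
      if k = k' then (Fintype.card J : ℂ) else 0 := by
  unfold Erow
  rw [classInner_sum_left]
  simp_rw [classInner_sum_right, hη]
  split_ifs with h
  · subst h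
    simp
  · simp [h]

/-- `x = 0, y = 1, b = 0` gives `Ψ = E_0`. -/
theorem psi_eq_Erow (h : PsiData i0 j0 η ψ Ψ 0 1 0) : Ψ = Erow η i0 := by
  have h1 : classInner Ψ (Erow η i0) = (Fintype.card J : ℂ) := by
    unfold Erow
    rw [classInner_sum_right]
    have : ∀ l, classInner Ψ (η i0 l) = 1 := by
      intro l
      by_cases hl : l = j0
      · subst hl; exact h.v00
      · rw [h.v0l l hl]; simp
    simp [this]
  have hnorm := h.norm
  have h2 := classInner_Erow (I := I) (J := J) h.eta i0 i0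
  rw [if_pos rfl] at h2
  have h3 : classInner (Erow η i0) Ψ = (Fintype.card J : ℂ) := by
    rw [← classInner_conj_symm, h1]
    simp
  have h4 : classInner (Ψ - Erow η i0) (Ψ - Erow η i0) = 0 := by
    rw [classInner_sub_left, classInner_sub_right, classInner_sub_right, hnorm, h1, h3, h2]
    simp
  exact sub_eq_zero.mp (eq_zero_of_classInner_self_eq_zero h4)

/-- `E_0` is odd: if `η i0 j0 g = 1` and `η i0 l g = n` for all `l ≠ j0`, with `|J|` odd. -/
theorem one_le_normSq_Erow (hJ : Odd (Fintype.card J)) (g : G) (n : ℤ)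
    (h0 : η i0 j0 g = 1) (hl : ∀ l, l ≠ j0 → η i0 l g = n) :
    1 ≤ Complex.normSq (Erow η i0 g) := by
  have hsplit : Erow η i0 g = 1 + ((Fintype.card J : ℤ) - 1) * n := by
    unfold Erow
    rw [Finset.sum_apply, ← Finset.add_sum_erase _ _ (Finset.mem_univ j0), h0]
    congr 1
    rw [Finset.sum_congr rfl (g := fun _ => (n : ℂ))]
    · have hpos : 1 ≤ Fintype.card J := Fintype.card_pos_iff.mpr ⟨j0⟩
      simp only [Finset.sum_const, Finset.card_erase_of_mem (Finset.mem_univ _), Finset.card_univ,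
        nsmul_eq_mul, Nat.cast_sub hpos, Nat.cast_one]
      push_cast
      ring
    · intro l hl'
      exact hl l (Finset.ne_of_mem_erase hl')
  obtain ⟨m, hm⟩ := hJ
  have h1 : Erow η i0 g = ((1 + 2 * m * n : ℤ) : ℂ) := by
    rw [hsplit, hm]
    push_cast
    ring
  rw [h1, Complex.normSq_intCast]
  have h2 : (1 + 2 * m * n : ℤ) ≠ 0 := by
    rw [mul_assoc]
    omega
  have h3 : 1 ≤ (1 + 2 * m * n : ℤ) * (1 + 2 * m * n) := by
    have : 0 < (1 + 2 * m * n : ℤ) * (1 + 2 * m * n) := by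
      exact mul_self_pos.mpr h2
    omega
  exact_mod_cast h3

open Classical in
/-- CASE `q > p̃`: abstract conclusion. `A = s Ψ - Σ ψ ξ` vanishes off `X` (it is `w τ(1_B)`). -/
theorem mass_large (h : PsiData i0 j0 η ψ Ψ 0 1 0) (X Y : Finset G)
    (hs : 0 < Fintype.card Ξ)
    (hA : ∀ g, g ∉ X → (Fintype.card Ξ : ℂ) * Ψ g - ∑ ξ, ψ ξ g = 0)
    (hodd : ∀ g, g ∉ X → g ∉ Y → 1 ≤ Complex.normSq (Ψ g)) :
    (((X ∪ Y)ᶜ.card : ℝ)) / Nat.card G ≤
      (Fintype.card J : ℝ) / ((Fintype.card Ξ : ℝ) * Fintype.card J + 1) := by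
  set s : ℝ := (Fintype.card Ξ : ℝ) with hs'
  set p : ℝ := (Fintype.card J : ℝ) with hp'
  have hs0 : 0 < s := by rw [hs']; exact_mod_cast hs
  have hp0 : 0 ≤ p := by rw [hp']; positivity
  set A : G → ℂ := (s : ℂ) • Ψ - ∑ ξ, ψ ξ with hAdef
  have hAv : ∀ g, g ∉ X → A g = 0 := by
    intro g hg
    have := hA g hg
    simp only [hAdef, Pi.sub_apply, Pi.smul_apply, smul_eq_mul, Finset.sum_apply, hs']
    push_cast
    exact this
  have hnormΨ : classInner Ψ Ψ = (p : ℂ) := by
    rw [h.norm, hp']; simp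
  have hΨψ : classInner Ψ (∑ ξ, ψ ξ) = 0 := by
    rw [classInner_sum_right]
    simp [h.vb]
  have hψΨ : classInner (∑ ξ, ψ ξ) Ψ = 0 := by
    rw [← classInner_conj_symm, hΨψ, map_zero]
  have hψψ : classInner (∑ ξ, ψ ξ) (∑ ξ, ψ ξ) = (s : ℂ) := by
    rw [classInner_sum_left]
    simp_rw [classInner_sum_right, h.psi]
    simp [hs']
  have hAΨ : classInner A Ψ = (s * p : ℝ) := by
    rw [hAdef, classInner_sub_left, classInner_smul_left, hnormΨ, hψΨ]
    push_cast; ring
  have hAA : classInner A A = ((s ^ 2 * p + s : ℝ) : ℂ) := by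
    rw [hAdef, classInner_sub_left, classInner_sub_right, classInner_sub_right, classInner_smul_left,
      classInner_smul_left, classInner_smul_right, classInner_smul_right, hnormΨ, hΨψ, hψΨ, hψψ]
    simp only [Complex.conj_ofReal]
    push_cast; ring
  have hnrmA : nrm A = s ^ 2 * p + s := by
    have := classInner_self A
    rw [hAA] at this
    exact_mod_cast this.symm
  have hnrmΨ : nrm Ψ = p := by
    have := classInner_self Ψ
    rw [hnormΨ] at this
    exact_mod_cast this.symm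
  have hnrmA0 : 0 < nrm A := by rw [hnrmA]; positivity
  have hmain := odd_mass Ψ A X Y hAv hnrmA0 hodd
  rw [hAΨ, Complex.normSq_ofReal, hnrmA, hnrmΨ] at hmain
  refine hmain.trans (le_of_eq ?_)
  have h1 : s * p + 1 ≠ 0 := by positivity
  field_simp
  ring

/-- Arithmetic for `q < p̃`: `(x, y, b) = (0, 1, 0)` from `s x = d b`, `d` big. -/
theorem cases_small {q p s : ℤ} {x y b d : ℤ} (hq : 3 ≤ q) (hp : 3 ≤ p) (hs : 2 ≤ s)
    (hd : 2 * p - 1 ≤ d) (ε : ℤ) (hε : ε = 1 ∨ ε = -1) (hxd : ε * x = d * b)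
    (h : 1 + (q - 1) * x ^ 2 + (p - 1) * y ^ 2 + (q - 1) * (p - 1) * (x + y - 1) ^ 2 + s * b ^ 2
      ≤ p + 2 * b) : x = 0 ∧ y = 1 ∧ b = 0 := by
  have ht := t_eq_zero hq hp hs h
  rw [ht] at h
  have h1 : 0 ≤ (p - 1) * y ^ 2 := by
    apply mul_nonneg (by linarith) (by positivity)
  have hb : b = 0 := by
    by_contra hb
    have hb2 : 1 ≤ b ^ 2 := by
      have : 0 < b ^ 2 := by positivity
      omega
    have h5 : 2 * b ≤ 2 * b ^ 2 := by nlinarith [sq_nonneg (b - 1), sq_nonneg b]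
    have h6 : 2 * b ^ 2 ≤ s * b ^ 2 := by
      apply mul_le_mul_of_nonneg_right hs (by positivity)
    have hxsq : x ^ 2 = d ^ 2 * b ^ 2 := by
      have h7 : (ε * x) ^ 2 = x ^ 2 := by
        rcases hε with rfl | rfl <;> ring
      rw [← h7, hxd]; ring
    have hd0 : 0 < d := by linarith
    have hd2 : d ^ 2 ≥ (2 * p - 1) ^ 2 := by nlinarith
    have h8 : (q - 1) * x ^ 2 ≥ 2 * (2 * p - 1) ^ 2 := by
      rw [hxsq]
      have h9 : d ^ 2 * b ^ 2 ≥ (2 * p - 1) ^ 2 * 1 := by
        apply mul_le_mul hd2 hb2 (by norm_num) (by positivity)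
      have h10 : (q - 1) * (d ^ 2 * b ^ 2) ≥ 2 * (d ^ 2 * b ^ 2) := by
        apply mul_le_mul_of_nonneg_right (by linarith) (by positivity)
      nlinarith
    nlinarith
  subst hb
  have hx0 : ε * x = 0 := by rw [hxd]; ring
  have hx : x = 0 := by
    rcases hε with rfl | rfl <;> omega
  refine ⟨hx, by omega, rfl⟩

end Cfsg.Agent.Lib.OddOrder.PFE2
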