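/-
PF section 9, item V2 (helper66): the part `PartV2` of the glue of `NoTypeV`.
-/
import Mathlib
import Cfsg.Agent.Lib.OddOrder.PFV2C
import Cfsg.Agent.Lib.OddOrder.PFV9B

set_option autoImplicit false
set_option linter.unusedSectionVars false
set_option linter.unusedVariables false
set_option linter.style.haveILetI false

namespace Cfsg.Agent.Lib.OddOrder.PFV2

open Cfsg Subgroup
open Cfsg.Agent.Lib.OddOrder.PFV9 Cfsg.Agent.Lib.OddOrder.PF9D

universe u

variable {G : Type u} [Group G] [Fintype G]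

/-- **V2**: the lift of `T`. -/
theorem partV2 : PartV2 G := by
  intro S T W₁ W₂ U C χ Fm _ _ _ _ _
  have V := C.V
  obtain ⟨X, hX⟩ := exists_relData V
  obtain ⟨x, y, hT⟩ := exists_tab V X hX Fm
  obtain ⟨B, -, hA⟩ := lift_A_eq V X hX
  refine ⟨⟨X, x, y, hT, B, ?_, ?_⟩⟩
  · intro g
    rw [hA g, relIndex_AA V]
  · intro φ hφ g hg
    by_contra hne
    rw [hX] at hne
    exact hg (dvd_orderOf_of_tau_ne V (X.BK_sub_mem hφ) hne)

end Cfsg.Agent.Lib.OddOrder.PFV2
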