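/-
PF section 9 (helper8): the table of a relative lift is constant along Galois orbits.
-/
import Mathlib
import Cfsg.Agent.Lib.OddOrder.PF9G
import Cfsg.Agent.Lib.OddOrder.PF8Main
import Cfsg.Agent.Lib.OddOrder.PFE9
import Cfsg.Agent.Lib.OddOrder.PFE7

set_option autoImplicit false
set_option linter.style.haveILetI false
set_option linter.unusedSectionVars false
open scoped ComplexConjugate BigOperators

namespace Cfsg.Agent.Lib.OddOrder.PF9D

open Cfsg Subgroup Cfsg.Agent.Lib.Char Cfsg.Agent.Lib.Char.Virtual Cfsg.Agent.Lib.Char.Induced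
open Cfsg.Agent.Lib.Char.CyclicTI Cfsg.Agent.Lib.OddOrder.PF9Row
open Cfsg.Agent.Lib.Char.Dade

/-- The inverse of a power map. -/
theorem exists_inv_pow {G : Type*} [Group G] [Finite G] {m : ℕ} (hm : m.Coprime (Nat.card G)) :
    ∃ n : ℕ, n.Coprime (Nat.card G) ∧ ∀ x : G, (x ^ m) ^ n = x := by
  have hpos : 0 < Nat.totient (Nat.card G) := Nat.totient_pos.mpr Nat.card_pos
  refine ⟨m ^ (Nat.totient (Nat.card G) - 1), Nat.Coprime.pow_left _ hm, fun x => ?_⟩
  rw [← pow_mul, ← pow_succ', Nat.sub_add_cancel hpos]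
  have h := Nat.ModEq.pow_totient hm
  have h2 : m ^ Nat.totient (Nat.card G) ≡ 1 [MOD orderOf x] :=
    h.of_dvd (orderOf_dvd_natCard x)
  have h3 := pow_eq_pow_iff_modEq.mpr h2
  rw [h3, pow_one]

/-- The centralizer of a power prime to the order. -/
theorem centralizer_pow {G : Type*} [Group G] [Finite G] (a : G) {m : ℕ}
    (hm : m.Coprime (Nat.card G)) :
    centralizer ({a ^ m} : Set G) = centralizer ({a} : Set G) := by
  obtain ⟨n, -, hn⟩ := exists_inv_pow hm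
  ext x
  rw [mem_centralizer_singleton_iff, mem_centralizer_singleton_iff]
  constructor
  · intro h
    have h1 : Commute x (a ^ m) := h
    have h2 := h1.pow_right n
    rw [hn] at h2
    exact h2
  · intro h
    have h1 : Commute x a := h
    exact h1.pow_right m

theorem supportR_pow {G : Type*} [Group G] [Finite G] (T : Subgroup G) (a : G) {m : ℕ}
    (hm : m.Coprime (Nat.card G)) : supportR T (a ^ m) = supportR T a := by
  classical
  have h := centralizer_pow a hm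
  unfold supportR
  by_cases hc : ¬ centralizer ({a} : Set G) ≤ T ∧
      ∃! L : Subgroup G, IsCoatom L ∧ centralizer ({a} : Set G) ≤ L
  · have hc' : ¬ centralizer ({a ^ m} : Set G) ≤ T ∧
        ∃! L : Subgroup G, IsCoatom L ∧ centralizer ({a ^ m} : Set G) ≤ L := by
      rw [h]
      exact hc
    rw [dif_pos hc, dif_pos hc']
    have e : Classical.choose hc'.2.exists = Classical.choose hc.2.exists := by
      apply hc.2.unique
      · have := Classical.choose_spec hc'.2.exists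
        exact ⟨this.1, h ▸ this.2⟩
      · exact Classical.choose_spec hc.2.exists
    rw [e]
    exact congrArg (fun C => fittingHallOf _ ⊓ C) h
  · have hc' : ¬ (¬ centralizer ({a ^ m} : Set G) ≤ T ∧
        ∃! L : Subgroup G, IsCoatom L ∧ centralizer ({a ^ m} : Set G) ≤ L) := by
      rw [h]
      exact hc
    rw [dif_neg hc, dif_neg hc']

section dade

variable {G : Type*} [Group G] [Fintype G] {Aset : Set G} {T : Subgroup G} [Fintype T]
  {H : G → Subgroup G} {K A : Subgroup T}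

/-- The power of a witnessed element. -/
theorem wit_pow (hD : DadeHypothesis Aset T H) {a : T} (ha : (a : G) ∈ Aset)
    (hH : ∀ a : G, a ∈ Aset → ∀ m : ℕ, m.Coprime (Nat.card G) → H (a ^ m) = H a)
    {g x u : G} (hu : u ∈ H a) (hxe : x * g * x⁻¹ = (a : G) * u) {m : ℕ}
    (hm : m.Coprime (Nat.card G)) :
    u ^ m ∈ H ((a ^ m : T) : G) ∧ x * g ^ m * x⁻¹ = ((a ^ m : T) : G) * u ^ m := by
  have hc : Commute (a : G) u := comm_of_mem hD ha hu
  refine ⟨?_, ?_⟩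
  · rw [Subgroup.coe_pow, hH _ ha m hm]
    exact pow_mem hu m
  · have h1 := conj_pow (a := x) (b := g) (i := m)
    rw [← h1, hxe, hc.mul_pow, Subgroup.coe_pow]

/-- **The Dade map commutes with the power maps.** -/
theorem dade_twist (hD : DadeHypothesis Aset T H)
    (hsupp : ∀ x : T, x ∈ K → x ∉ A → (x : G) ∈ Aset)
    (hH : ∀ a : G, a ∈ Aset → ∀ m : ℕ, m.Coprime (Nat.card G) → H (a ^ m) = H a)
    {α : T → ℂ} (hα : α ∈ RelDom K A) {m : ℕ} (hm : m.Coprime (Nat.card G)) (g : G) :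
    dadeIsometry Aset T H α (g ^ m) = dadeIsometry Aset T H (fun t => α (t ^ m)) g := by
  classical
  have hmT : m.Coprime (Nat.card T) :=
    Nat.Coprime.coprime_dvd_right (Subgroup.card_subgroup_dvd_card T) hm
  have hα' : (fun t => α (t ^ m)) ∈ RelDom K A := by
    refine ⟨fun t k => ?_, fun x hx => ?_, fun a ha => ?_⟩
    · show α ((k * t * k⁻¹) ^ m) = α (t ^ m)
      rw [conj_pow, hα.1]
    · exact hα.2.1 _ (fun h => hx ((GaloisC.pow_mem_iff_of_coprime K hmT x).mp h))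
    · exact hα.2.2 _ (pow_mem ha m)
  have hoff : ∀ {β : T → ℂ}, β ∈ RelDom K A → ∀ {g : G},
      (¬ ∃ a : T, a ∈ K ∧ a ∉ A ∧ ∃ x u : G, u ∈ H a ∧ x * g * x⁻¹ = (a : G) * u) →
      dadeIsometry Aset T H β g = 0 := by
    intro β hβ g hg
    by_cases hw : Wit Aset T H g
    · obtain ⟨a, ha, x, u, hu, hxe⟩ := hw
      rw [dade_value hD β hβ.1 ha hu hxe]
      by_cases h1 : a ∈ K
      · by_cases h2 : a ∈ A
        · exact hβ.2.2 a h2
        · exact absurd ⟨a, h1, h2, x, u, hu, hxe⟩ hg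
      · exact hβ.2.1 a h1
    · exact dade_of_not_wit β hw
  by_cases hw : ∃ a : T, a ∈ K ∧ a ∉ A ∧ ∃ x u : G, u ∈ H a ∧ x * g * x⁻¹ = (a : G) * u
  · obtain ⟨a, h1, h2, x, u, hu, hxe⟩ := hw
    have ha := hsupp a h1 h2
    obtain ⟨hu', hxe'⟩ := wit_pow hD ha hH hu hxe hm
    have h1' : a ^ m ∈ K := pow_mem h1 m
    have h2' : a ^ m ∉ A := fun h => h2 ((GaloisC.pow_mem_iff_of_coprime A hmT a).mp h)
    rw [dade_value hD α hα.1 (hsupp _ h1' h2') hu' hxe', dade_value hD _ hα'.1 ha hu hxe]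
  · rw [hoff hα' hw, hoff hα]
    rintro ⟨a, h1, h2, x, u, hu, hxe⟩
    obtain ⟨n, hn, hnp⟩ := exists_inv_pow hm
    have hnT : n.Coprime (Nat.card T) :=
      Nat.Coprime.coprime_dvd_right (Subgroup.card_subgroup_dvd_card T) hn
    obtain ⟨hu', hxe'⟩ := wit_pow hD (hsupp a h1 h2) hH hu hxe hn
    rw [hnp] at hxe'
    exact hw ⟨a ^ n, pow_mem h1 n,
      fun h => h2 ((GaloisC.pow_mem_iff_of_coprime A hnT a).mp h), x, u ^ n, hu', hxe'⟩

end dade

section rel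

variable {L : Type*} [Group L] [Fintype L] {K A : Subgroup L}
variable {G : Type*} [Group G] [Fintype G]

namespace RelGroup

variable (X : RelGroup K A)

include X

/-- The family is closed under the power maps. -/
theorem pow_mem {φ : L → ℂ} (hφ : φ ∈ inducedIrrAbove K A) {m : ℕ}
    (hm : m.Coprime (Nat.card L)) : (fun x => φ (x ^ m)) ∈ inducedIrrAbove K A := by
  classical
  obtain ⟨θ, hθ, hθ1, hA, rfl⟩ := hφ
  have hmK : m.Coprime (Nat.card K) :=
    Nat.Coprime.coprime_dvd_right (Subgroup.card_subgroup_dvd_card K) hm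
  refine ⟨fun b => θ (b ^ m), Galois.isIrrCharacter_pow_of_coprime hθ hmK, ?_, ?_, ?_⟩
  · intro h
    apply hθ1
    funext k
    obtain ⟨k', rfl⟩ := (pow_bij hmK).2 k
    exact congrFun h k'
  · intro a ha
    have h1 : ((a ^ m : K) : L) ∈ A := by
      rw [Subgroup.coe_pow]
      exact A.pow_mem ha m
    simp only [one_pow]
    exact hA _ h1
  · funext g
    exact indFun_twist K θ hm g

end RelGroup

namespace RelData

variable (X : RelData G K A)

include X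

/-- `BK` is fixed by the power maps. -/
theorem BK_pow {m : ℕ} (hm : m.Coprime (Nat.card L)) (x : L) : BK K (x ^ m) = BK K x := by
  by_cases hx : x ∈ K
  · rw [X.BK_of_mem hx, X.BK_of_mem (pow_mem hx m)]
  · rw [X.BK_of_notMem hx, X.BK_of_notMem
      (fun h => hx ((GaloisC.pow_mem_iff_of_coprime K hm x).mp h))]

/-- **The table is constant along the orbits of the power maps.** -/
theorem inner_Γ_twist {m : ℕ} (hm : m.Coprime (Nat.card G)) (hmL : m.Coprime (Nat.card L))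
    (htw : ∀ α ∈ RelDom K A, ∀ g, X.τ α (g ^ m) = X.τ (fun t => α (t ^ m)) g)
    {h : G → ℂ} (hperp : ∀ φ ∈ inducedIrrAbove K A, classInner (X.τ₁ φ) (fun g => h (g ^ m)) = 0) :
    classInner X.lift.Γ (fun g => h (g ^ m)) = classInner X.lift.Γ h := by
  have hφ' := X.grp.pow_mem X.hφ₀ hmL
  set φ' : L → ℂ := fun x => X.φ₀ (x ^ m) with hφ'def
  have h1 : (fun g => X.lift.Γ (g ^ m)) = X.τ (BK K - φ') := by
    funext g
    rw [X.lift_Γ, htw _ (X.BK_sub_mem X.hφ₀)]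
    congr 1
    funext t
    simp only [Pi.sub_apply, hφ'def]
    rw [X.BK_pow hmL]
  have h2 : X.τ (BK K - φ') = X.lift.Γ + (X.τ₁ X.φ₀ - X.τ₁ φ') := by
    rw [X.lift_Γ, ← X.tau_diff X.hφ₀ hφ', ← X.iso.add _ (X.BK_sub_mem X.hφ₀) _
      (X.diff_dom X.hφ₀ hφ')]
    congr 1
    abel
  have h3 := classInner_twist hm X.lift.Γ h
  rw [h1, h2, classInner_add_left, classInner_sub_left, hperp _ X.hφ₀, hperp _ hφ', sub_zero,
    add_zero] at h3
  exact h3

end RelData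

end rel

section tab

open Cfsg.Agent.Lib.OddOrder.PF9Row.Hyp (IA)
open Cfsg.Agent.Lib.OddOrder.PFE9

variable {G : Type*} [Group G] [Fintype G] {W₁ W₂ W : Subgroup G} {χ : (↥W →* ℂˣ) → G → ℂ}

/-- A residue prime to `q`, lifted to a number prime to `n`. -/
theorem exists_coprime_lift {q n j : ℕ} (hq : q ∣ n) (hn : n ≠ 0) (hj : j.Coprime q) :
    ∃ m : ℕ, m.Coprime n ∧ m ≡ j [MOD q] := by
  haveI : NeZero n := ⟨hn⟩
  have hq0 : q ≠ 0 := fun h => hn (by rw [h] at hq; exact zero_dvd_iff.mp hq)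
  haveI : NeZero q := ⟨hq0⟩
  obtain ⟨u, hu⟩ := ZMod.unitsMap_surjective hq (ZMod.unitOfCoprime j hj)
  refine ⟨(u : ZMod n).val, ZMod.val_coe_unit_coprime u, ?_⟩
  rw [← ZMod.natCast_eq_natCast_iff]
  have h1 : (((u : ZMod n).val : ℕ) : ZMod q) = ZMod.cast (u : ZMod n) := by
    rw [ZMod.natCast_val]
  have h2 : (ZMod.unitsMap hq u : ZMod q) = ZMod.cast (u : ZMod n) := rfl
  rw [h1, ← h2, hu]
  rfl

/-- The characters of `W` trivial on `W₂` are permuted transitively by the power maps, if `W₁` has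
prime order. -/
theorem exists_pow_eq (hsn : IsSelfNormalizingCyclic W₁ W₂) (hsup : W₁ ⊔ W₂ = W)
    (hq : (Nat.card W₁).Prime) {φ φ' : IA W₂ W} (hφ : φ.1 ≠ 1) (hφ' : φ'.1 ≠ 1) :
    ∃ m : ℕ, m.Coprime (Nat.card G) ∧ φ.1 ^ m = φ'.1 := by
  classical
  have hfin : Finite (↥W →* ℂˣ) := by
    obtain rfl := hsup
    exact Cfsg.Agent.Lib.OddOrder.PF3.finite_chars hsn.2.2.2.2.1
  let Γ₀ : Subgroup (↥W →* ℂˣ) :=
    { carrier := {ω | ∀ w : ↥W, (w : G) ∈ W₂ → ω w = 1}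
      one_mem' := fun _ _ => rfl
      mul_mem' := fun {a b} ha hb w hw => by
        rw [MonoidHom.mul_apply, ha w hw, hb w hw, one_mul]
      inv_mem' := fun {a} ha w hw => by
        rw [MonoidHom.inv_apply, ha w hw, inv_one] }
  have hcard : Nat.card Γ₀ = Nat.card W₁ := (card_IA' hsn hsup).1
  haveI : Fact (Nat.card W₁).Prime := ⟨hq⟩
  haveI : Finite Γ₀ := inferInstance
  letI : Fintype Γ₀ := Fintype.ofFinite _
  set g : Γ₀ := ⟨φ.1, φ.2⟩ with hg
  set g' : Γ₀ := ⟨φ'.1, φ'.2⟩ with hg'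
  have hg1 : g ≠ 1 := fun h => hφ (congrArg Subtype.val h)
  have hg'1 : g' ≠ 1 := fun h => hφ' (congrArg Subtype.val h)
  obtain ⟨j, hj⟩ : g' ∈ Submonoid.powers g := mem_powers_of_prime_card hcard hg1
  have hgq : g ^ Nat.card W₁ = 1 := by
    rw [← hcard]
    exact pow_card_eq_one'
  have hjc : j.Coprime (Nat.card W₁) := by
    refine ((Nat.Prime.coprime_iff_not_dvd hq).mpr fun hd => hg'1 ?_).symm
    obtain ⟨t, rfl⟩ := hd
    rw [← hj]
    show g ^ _ = 1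
    rw [pow_mul, hgq, one_pow]
  obtain ⟨m, hm, hmj⟩ := exists_coprime_lift (Subgroup.card_subgroup_dvd_card W₁)
    Nat.card_pos.ne' hjc
  refine ⟨m, hm, ?_⟩
  have h2 : g ^ m = g ^ j := by
    apply pow_eq_pow_iff_modEq.mpr
    exact hmj.of_dvd (orderOf_dvd_of_pow_eq_one hgq)
  have h3 : g ^ m = g' := by rw [h2, ← hj]
  exact congrArg Subtype.val h3

variable {L : Type*} [Group L] [Fintype L] {K A : Subgroup L}

/-- **`x` is constant** on a relative lift, if the isometry commutes with the power maps. -/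
theorem RelData.x_const [Fintype (inducedIrrAbove K A)] (X : RelData G K A)
    (hsn : IsSelfNormalizingCyclic W₁ W₂) (F₀ : Fam W₁ W₂ W χ) (hq3 : 3 ≤ Nat.card W₁)
    (hp3 : 3 ≤ Nat.card W₂) (hq : (Nat.card W₁).Prime) (hodd : Odd (Nat.card W))
    (hLG : Nat.card L ∣ Nat.card G)
    (htw : ∀ m : ℕ, m.Coprime (Nat.card G) → ∀ α ∈ RelDom K A, ∀ g,
      X.τ α (g ^ m) = X.τ (fun t => α (t ^ m)) g)
    (hC : ∀ α ∈ RelDom K A, ∀ g ∈ (etaFamOf hsn F₀ hq3 hp3).C, X.τ α g = 0) :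
    ∃ x : ℤ, ∀ k, k ≠ (etaFamOf hsn F₀ hq3 hp3).i0 →
      classInner X.lift.Ψ ((etaFamOf hsn F₀ hq3 hp3).η k (etaFamOf hsn F₀ hq3 hp3).j0) = x := by
  classical
  set F := etaFamOf hsn F₀ hq3 hp3 with hF
  obtain ⟨n, hn, -, -, -⟩ := X.table F hC
  obtain ⟨k₁, hk₁⟩ : ∃ k₁, k₁ ≠ F.i0 := by
    have h := F.card_I
    have : Nontrivial (IA W₂ W) := (Finite.one_lt_card_iff_nontrivial).mp (by omega)
    exact exists_ne _
  obtain ⟨l₁, hl₁⟩ : ∃ l₁, l₁ ≠ F.j0 := by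
    have h := F.card_J
    have : Nontrivial (IA W₁ W) := (Finite.one_lt_card_iff_nontrivial).mp (by omega)
    exact exists_ne _
  have hne_k : ∀ k : IA W₂ W, k ≠ F.i0 → k.1 ≠ 1 := fun k hk he => hk (Subtype.ext he)
  have hl₁1 : l₁.1 ≠ 1 := fun he => hl₁ (Subtype.ext he)
  refine ⟨n k₁ F.j0, fun k hk => ?_⟩
  obtain ⟨m, hm, hmk⟩ := exists_pow_eq hsn F₀.sup hq (hne_k k₁ hk₁) (hne_k k hk)
  have hmL : m.Coprime (Nat.card L) := Nat.Coprime.coprime_dvd_right hLG hm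
  have h1 : (fun g => χ k₁.1 (g ^ m)) = χ k.1 := by
    rw [← hmk]
    exact (twist_both F₀ hsn hodd hm (hne_k k₁ hk₁) hl₁1 k₁.2 l₁.2).1
  have hone : ∀ k' : IA W₂ W, F.η k' F.j0 = χ k'.1 := fun k' => etaFamOf_one_right hsn F₀ hq3 hp3 k'
  have hperp : ∀ k' : IA W₂ W, ∀ φ ∈ inducedIrrAbove K A, classInner (X.τ₁ φ) (χ k'.1) = 0 := by
    intro k' φ hφ
    rw [← hone]
    exact X.perp F hC hφ k' F.j0
  have h2 := X.inner_Γ_twist hm hmL (htw m hm) (h := χ k₁.1) (fun φ hφ => by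
    rw [h1]
    exact hperp k φ hφ)
  rw [h1] at h2
  rw [hone k, Lift.inner_Ψ_of_perp X.lift (hperp k _ X.hφ₀), h2,
    ← Lift.inner_Ψ_of_perp X.lift (hperp k₁ _ X.hφ₀), ← hone k₁, hn]

/-- **The table of a relative lift**, if the isometry commutes with the power maps. -/
theorem RelData.exists_tab [Fintype (inducedIrrAbove K A)] [Fintype (IA W₂ W)] [Fintype (IA W₁ W)]
    (X : RelData G K A)
    (hsn : IsSelfNormalizingCyclic W₁ W₂) (F₀ : Fam W₁ W₂ W χ) (hq3 : 3 ≤ Nat.card W₁)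
    (hp3 : 3 ≤ Nat.card W₂) (hq : (Nat.card W₁).Prime) (hodd : Odd (Nat.card W))
    (hLG : Nat.card L ∣ Nat.card G)
    (htw : ∀ m : ℕ, m.Coprime (Nat.card G) → ∀ α ∈ RelDom K A, ∀ g,
      X.τ α (g ^ m) = X.τ (fun t => α (t ^ m)) g)
    (hC : ∀ α ∈ RelDom K A, ∀ g ∈ (etaFamOf hsn F₀ hq3 hp3).C, X.τ α g = 0) :
    ∃ (x : ℤ) (y : IA W₁ W → ℤ), PFE7.Tab (etaFamOf hsn F₀ hq3 hp3) X.lift x y := by
  classical
  set F := etaFamOf hsn F₀ hq3 hp3 with hF
  obtain ⟨x, hx⟩ := X.x_const hsn F₀ hq3 hp3 hq hodd hLG htw hC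
  obtain ⟨n, hn, h00, hadd, -⟩ := X.table F hC
  have hxn : ∀ k, k ≠ F.i0 → n k F.j0 = x := by
    intro k hk
    have h1 := hx k hk
    rw [hn] at h1
    exact_mod_cast h1
  refine ⟨x, fun l => n F.i0 l, ⟨fun φ k l => X.perp F hC φ.2 k l, X.Ψ_inner_one, h00, hx,
    fun l _ => hn _ _, fun k hk l _ => ?_⟩⟩
  rw [hn, hadd k l, hxn k hk]

/-- **`y` is constant along Galois orbits**, if the isometry commutes with the power maps. -/
theorem RelData.y_twist [Fintype (inducedIrrAbove K A)]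
    (X : RelData G K A)
    (hsn : IsSelfNormalizingCyclic W₁ W₂) (F₀ : Fam W₁ W₂ W χ) (hq3 : 3 ≤ Nat.card W₁)
    (hp3 : 3 ≤ Nat.card W₂) (hodd : Odd (Nat.card W))
    (hLG : Nat.card L ∣ Nat.card G)
    (htw : ∀ m : ℕ, m.Coprime (Nat.card G) → ∀ α ∈ RelDom K A, ∀ g,
      X.τ α (g ^ m) = X.τ (fun t => α (t ^ m)) g)
    (hC : ∀ α ∈ RelDom K A, ∀ g ∈ (etaFamOf hsn F₀ hq3 hp3).C, X.τ α g = 0)
    (l : IA W₁ W) {m : ℕ} (hm : m.Coprime (Nat.card G))
    (hl : ∀ w : ↥W, (w : G) ∈ W₁ → (l.1 ^ m) w = 1) :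
    classInner X.lift.Ψ (χ (l.1 ^ m)) = classInner X.lift.Ψ (χ l.1) := by
  classical
  set F := etaFamOf hsn F₀ hq3 hp3 with hF
  by_cases hl1 : l.1 = 1
  · have e : (1 : ↥W →* ℂˣ) ^ m = 1 := by
      ext w
      rw [hom_pow_apply]
      simp
    rw [hl1, e]
  have hmL : m.Coprime (Nat.card L) := Nat.Coprime.coprime_dvd_right hLG hm
  obtain ⟨k₁, hk₁⟩ : ∃ k₁, k₁ ≠ F.i0 := by
    have h := F.card_I
    have : Nontrivial (IA W₂ W) := (Finite.one_lt_card_iff_nontrivial).mp (by omega)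
    exact exists_ne _
  have hk₁1 : k₁.1 ≠ 1 := fun he => hk₁ (Subtype.ext he)
  have h1 : (fun g => χ l.1 (g ^ m)) = χ (l.1 ^ m) :=
    (twist_both F₀ hsn hodd hm hk₁1 hl1 k₁.2 l.2).2
  have hone : ∀ l' : IA W₁ W, F.η F.i0 l' = χ l'.1 := fun l' => etaFamOf_one_left hsn F₀ hq3 hp3 l'
  have hperp : ∀ l' : IA W₁ W, ∀ φ ∈ inducedIrrAbove K A, classInner (X.τ₁ φ) (χ l'.1) = 0 := by
    intro l' φ hφ
    rw [← hone]
    exact X.perp F hC hφ F.i0 l'
  have h2 := X.inner_Γ_twist hm hmL (htw m hm) (h := χ l.1) (fun φ hφ => by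
    rw [h1]
    exact hperp ⟨l.1 ^ m, hl⟩ φ hφ)
  rw [h1] at h2
  rw [Lift.inner_Ψ_of_perp X.lift (hperp ⟨l.1 ^ m, hl⟩ _ X.hφ₀), h2,
    Lift.inner_Ψ_of_perp X.lift (hperp l _ X.hφ₀)]

/-- The power maps and the Dade map: the hypothesis `htw` of `RelData.exists_tab`. -/
theorem RelData.dade_htw {T : Subgroup G} [Fintype T] {K' A' : Subgroup T} (X : RelData G K' A')
    {Aset : Set G} (hD : DadeHypothesis Aset T (supportR T))
    (hτ : X.τ = dadeIsometry Aset T (supportR T))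
    (hsupp : ∀ x : T, x ∈ K' → x ∉ A' → (x : G) ∈ Aset) (m : ℕ) (hm : m.Coprime (Nat.card G))
    (α : T → ℂ) (hα : α ∈ RelDom K' A') (g : G) :
    X.τ α (g ^ m) = X.τ (fun t => α (t ^ m)) g := by
  rw [hτ]
  exact dade_twist hD hsupp (fun a _ m hm => supportR_pow T a hm) hα hm g

end tab

end Cfsg.Agent.Lib.OddOrder.PF9D
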