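/-
PF section 9, case `q < p̃` (helper55): the degree of a `T`-invariant irreducible character `θ` of `Q`.
* `degree_cong`: abstract form with the hypotheses of row S1511: `θ(1) ≡ ±1 mod |W₁|`.
* `VSide.degree_cong`, `VSide.degree_ge`: `θ(1) ≥ 2 p̃ - 1` when `θ ≠ 1`, `p̃ = |W₂|`.
See wip/oddorder/PF_E_helper7.md, part D.
-/
import Mathlib
import Cfsg.Agent.S1511
import Cfsg.Agent.Lib.OddOrder.PFG3
import Cfsg.Agent.Lib.OddOrder.PFB9
import Cfsg.Agent.Lib.Char.CoprimeCount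
import Cfsg.Agent.Lib.Char.GlaubOver

set_option autoImplicit false
set_option linter.unusedSectionVars false
set_option linter.unusedVariables false
set_option linter.style.haveILetI false
open scoped ComplexConjugate BigOperators

namespace Cfsg.Agent.Lib.OddOrder.PFV4Deg

open Cfsg Subgroup
open Cfsg.Agent.Lib.Char.Basic Cfsg.Agent.Lib.Char.CoprimeCount
open Cfsg.Agent.Lib.OddOrder.PFB5 Cfsg.Agent.Lib.OddOrder.PFG

section Abstract

variable {L : Type*} [Group L] [Fintype L]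

/-- **The degree of an invariant character**: with the hypotheses of row S1511, an `L`-invariant irreducible
character of `K` has degree `≡ ±1 mod |W₁|` (and the degree divides `|K|`). -/
theorem degree_cong (K W₁ W₂ : Subgroup L) [hK : K.Normal] (hKW₁ : K ⊓ W₁ = ⊥) (hKW₁' : K ⊔ W₁ = ⊤)
    (hW₁ : W₁ ≠ ⊥) (hW₁c : IsCyclic W₁) (hHall : Nat.Coprime (Nat.card W₁) W₁.index) (hW₂ : W₂ ≠ ⊥)
    (hW₂c : IsCyclic W₂) (hW₂K : W₂ ≤ K)
    (hC : ∀ x ∈ W₁, x ≠ 1 → K ⊓ Subgroup.centralizer ({x} : Set L) = W₂)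
    (hodd : Odd (Nat.card ↥(W₁ ⊔ W₂)))
    {θ : K → ℂ} (hθ : IsIrrCharacter K θ)
    (hinv : ∀ (g : L) (n : K), θ ⟨g * n * g⁻¹, hK.conj_mem n n.2 g⟩ = θ n) :
    ∃ (d : ℕ) (n ε : ℤ), θ 1 = d ∧ d ∣ Nat.card K ∧ (ε = 1 ∨ ε = -1) ∧
      (d : ℤ) = ε + n * Nat.card W₁ := by
  classical
  obtain ⟨d, hd, hd0, hdvd⟩ := Cfsg.Agent.Lib.Char.GlaubOver.exists_degree_dvd hθ
  have hc : K.IsComplement' W₁ := by
    refine Subgroup.isComplement'_of_disjoint_and_mul_eq_univ (disjoint_iff.mpr hKW₁) ?_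
    rw [← Subgroup.normal_mul, hKW₁']
    rfl
  have hidx : K.index = Nat.card W₁ := hc.symm.index_eq_card
  have hcK : W₁.index = Nat.card K := hc.index_eq_card
  have hcop : Nat.Coprime (Nat.card K) K.index := by
    rw [hidx, ← hcK]
    exact hHall.symm
  obtain ⟨χ, hχ, hext⟩ := exists_ext_of_coprime K hcop hθ hinv
  obtain ⟨μ, δ, hinj, hirr, hsign, hind, hval, hother, hcong⟩ :=
    Cfsg.Agent.S1511.result K W₁ W₂ hKW₁ hKW₁' hW₁ hW₁c hHall hW₂ hW₂c hW₂K hC hodd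
  by_cases hχμ : ∃ ω, χ = μ ω
  · obtain ⟨ω, rfl⟩ := hχμ
    obtain ⟨n, hn⟩ := hcong ω
    have h1 : μ ω 1 = d := by
      rw [← hd, ← hext 1]
      rfl
    rw [h1] at hn
    rcases hsign ω with h | h
    · refine ⟨d, n, 1, hd, hdvd, Or.inl rfl, ?_⟩
      rw [h] at hn
      have h2 : (d : ℂ) = ((1 + n * Nat.card W₁ : ℤ) : ℂ) := by
        push_cast
        linear_combination hn
      exact_mod_cast h2
    · refine ⟨d, n, -1, hd, hdvd, Or.inr rfl, ?_⟩
      rw [h] at hn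
      have h2 : (d : ℂ) = ((-1 + n * Nat.card W₁ : ℤ) : ℂ) := by
        push_cast
        linear_combination hn
      exact_mod_cast h2
  · exfalso
    push Not at hχμ
    have hv : ∀ w : W₁, (w : L) ≠ 1 → χ w = 0 := by
      intro w hw
      refine hother χ hχ hχμ ⟨w, Subgroup.mem_sup_left w.2⟩ (fun h => hw ?_)
      have h2 : (w : L) ∈ K ⊓ W₁ := ⟨hW₂K h, w.2⟩
      rw [hKW₁] at h2
      exact Subgroup.mem_bot.mp h2
    have hres : IsCharacter W₁ (fun w : W₁ => χ w) :=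
      isCharacter_restrict (isCharacter_of_isIrrCharacter hχ) W₁
    have hone : IsCharacter W₁ (fun _ : W₁ => (1 : ℂ)) :=
      isCharacter_of_isIrrCharacter Cfsg.Agent.Lib.Char.IndNormal.isIrrCharacter_principal
    obtain ⟨m, hm⟩ := Cfsg.Agent.Lib.Char.Ortho.exists_nat_classInner_of_isCharacter hres hone
    have hsum : ∑ w : W₁, χ w = χ 1 := by
      rw [Finset.sum_eq_single (1 : W₁)]
      · rfl
      · intro w _ hw
        exact hv w (fun h => hw (Subtype.ext h))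
      · intro h; exact absurd (Finset.mem_univ _) h
    have hχ1 : χ 1 = d := by
      rw [← hd, ← hext 1]
      rfl
    have hcardne : (Nat.card W₁ : ℂ) ≠ 0 := by
      exact_mod_cast Nat.card_pos.ne'
    have h3 : (d : ℂ) = m * Nat.card W₁ := by
      have h4 : classInner (fun w : W₁ => χ w) (fun _ : W₁ => (1 : ℂ)) = (d : ℂ) / Nat.card W₁ := by
        rw [Cfsg.Agent.Lib.Char.Induced.classInner_def]
        simp only [map_one, mul_one]
        rw [hsum, hχ1, Nat.card_eq_fintype_card]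
        ring
      rw [hm] at h4
      rw [h4]
      field_simp
    have h5 : d = m * Nat.card W₁ := by exact_mod_cast h3
    have h6 : Nat.card W₁ ∣ Nat.card K := (Dvd.intro_left m h5.symm).trans hdvd
    have h7 : Nat.Coprime (Nat.card W₁) (Nat.card K) := by
      rw [← hcK]; exact hHall
    have h8 : Nat.card W₁ = 1 := Nat.Coprime.eq_one_of_dvd h7 h6
    exact hW₁ ((Subgroup.card_eq_one).mp h8)

/-- A linear character of `K` is trivial on `⁅K, K⁆`. -/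
theorem trivial_on_comm (K : Subgroup L) {θ : K → ℂ} (hθ : IsCharacter K θ) (h1 : θ 1 = 1) (a : K)
    (ha : (a : L) ∈ ⁅K, K⁆) : θ a = θ 1 := by
  obtain ⟨l, hl⟩ := Cfsg.Agent.Lib.Char.LinearChars.exists_hom_of_isCharacter_one hθ h1
  have hle : ⁅K, K⁆ ≤ (l.ker).map K.subtype := by
    rw [Subgroup.commutator_le]
    intro g₁ hg₁ g₂ hg₂
    refine ⟨(⟨g₁, hg₁⟩ : K) * ⟨g₂, hg₂⟩ * (⟨g₁, hg₁⟩ : K)⁻¹ * (⟨g₂, hg₂⟩ : K)⁻¹, ?_, rfl⟩
    show l _ = 1
    simp only [map_mul, map_inv]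
    rw [mul_comm (l _) (l _)]
    simp
  obtain ⟨y, hy, hya⟩ := hle ha
  have hya' : y = a := Subtype.ext hya
  subst hya'
  rw [hl]
  simp [MonoidHom.mem_ker.mp hy]

end Abstract

section VSide

universe u

variable {G : Type u} [Group G] [Fintype G] {T W₂ W₁ : Subgroup G} [Fintype T]

open Cfsg.Agent.Lib.OddOrder.BG16

/-- The hypotheses of row S1511 for `L = T`, `K = Q`. -/
theorem _root_.Cfsg.Agent.Lib.OddOrder.PFG.VSide.s1511_hyps (V : VSide T W₂ W₁) :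
    (fittingHallOf T).subgroupOf T ⊓ W₂.subgroupOf T = ⊥ ∧
    (fittingHallOf T).subgroupOf T ⊔ W₂.subgroupOf T = ⊤ ∧
    W₂.subgroupOf T ≠ ⊥ ∧ IsCyclic (W₂.subgroupOf T) ∧
    Nat.Coprime (Nat.card (W₂.subgroupOf T)) (W₂.subgroupOf T).index ∧
    W₁.subgroupOf T ≠ ⊥ ∧ IsCyclic (W₁.subgroupOf T) ∧
    W₁.subgroupOf T ≤ (fittingHallOf T).subgroupOf T ∧
    (∀ x ∈ W₂.subgroupOf T, x ≠ 1 →
      (fittingHallOf T).subgroupOf T ⊓ Subgroup.centralizer ({x} : Set T) = W₁.subgroupOf T) ∧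
    Odd (Nat.card ↥(W₂.subgroupOf T ⊔ W₁.subgroupOf T)) := by
  have hcompl := V.compl
  have hW₂T : W₂ ≤ T := V.W₂_le
  have hW₁T : W₁ ≤ T := V.W₁_le_T
  have hcW₂ : Nat.card (W₂.subgroupOf T) = Nat.card W₂ :=
    Nat.card_congr (Subgroup.subgroupOfEquivOfLe hW₂T).toEquiv
  refine ⟨?_, ?_, ?_, ?_, ?_, ?_, ?_, ?_, ?_, ?_⟩
  · rw [eq_bot_iff]
    rintro ⟨x, hxT⟩ ⟨h1, h2⟩
    have h3 : x ∈ fittingHallOf T ⊓ W₂ := ⟨Subgroup.mem_subgroupOf.mp h1, Subgroup.mem_subgroupOf.mp h2⟩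
    rw [hcompl.2.2.1] at h3
    exact Subgroup.mem_bot.mpr (Subtype.ext (Subgroup.mem_bot.mp h3))
  · rw [eq_top_iff]
    rintro ⟨x, hxT⟩ -
    obtain ⟨y, hy, s, hs, rfl⟩ := hcompl.2.2.2 x hxT
    have hyT : y ∈ T := V.Q_le hy
    have hsT : s ∈ T := hW₂T hs
    have e : (⟨y * s, hxT⟩ : T) = ⟨y, hyT⟩ * ⟨s, hsT⟩ := rfl
    rw [e]
    exact Subgroup.mul_mem_sup (Subgroup.mem_subgroupOf.mpr hy) (Subgroup.mem_subgroupOf.mpr hs)
  · intro h
    apply V.W₂_ne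
    rw [eq_bot_iff]
    intro x hx
    have h1 : (⟨x, hW₂T hx⟩ : T) ∈ W₂.subgroupOf T := Subgroup.mem_subgroupOf.mpr hx
    rw [h] at h1
    have h2 := congrArg Subtype.val (Subgroup.mem_bot.mp h1)
    exact Subgroup.mem_bot.mpr h2
  · exact (Subgroup.subgroupOfEquivOfLe hW₂T).isCyclic.mpr V.hP.W₁_cyclic
  · rw [hcW₂]
    exact V.hP.W₁_hall
  · intro h
    apply V.W₁_ne
    rw [eq_bot_iff]
    intro x hx
    have h1 : (⟨x, hW₁T hx⟩ : T) ∈ W₁.subgroupOf T := Subgroup.mem_subgroupOf.mpr hx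
    rw [h] at h1
    have h2 := congrArg Subtype.val (Subgroup.mem_bot.mp h1)
    exact Subgroup.mem_bot.mpr h2
  · haveI : Fact (Nat.card W₁).Prime := ⟨V.hq⟩
    have : IsCyclic W₁ := isCyclic_of_prime_card rfl
    exact (Subgroup.subgroupOfEquivOfLe hW₁T).isCyclic.mpr this
  · rintro ⟨x, hxT⟩ h
    exact Subgroup.mem_subgroupOf.mpr (V.W₁_le_Q (Subgroup.mem_subgroupOf.mp h))
  · rintro ⟨x, hxT⟩ hx hx1
    have hx' : x ∈ W₂ := Subgroup.mem_subgroupOf.mp hx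
    have hx1' : x ≠ 1 := fun h => hx1 (Subtype.ext h)
    have hce := V.centralizer_eq hx' hx1'
    ext ⟨y, hyT⟩
    simp only [Subgroup.mem_inf, Subgroup.mem_subgroupOf, Subgroup.mem_centralizer_singleton_iff]
    rw [← hce, Subgroup.mem_inf, Subgroup.mem_centralizer_singleton_iff]
    constructor
    · rintro ⟨h1, h2⟩
      exact ⟨h1, congrArg Subtype.val h2⟩
    · rintro ⟨h1, h2⟩
      exact ⟨h1, Subtype.ext h2⟩
  · have h1 : Nat.card ↥(W₂.subgroupOf T ⊔ W₁.subgroupOf T) ∣ Nat.card T :=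
      Subgroup.card_subgroup_dvd_card _
    have h2 : Nat.card T ∣ Nat.card G := Subgroup.card_subgroup_dvd_card T
    exact V.hG.1.of_dvd_nat (h1.trans h2)

/-- The congruence for `T`. -/
theorem _root_.Cfsg.Agent.Lib.OddOrder.PFG.VSide.degree_cong (V : VSide T W₂ W₁) [hK : ((fittingHallOf T).subgroupOf T).Normal]
    {θ : (fittingHallOf T).subgroupOf T → ℂ} (hθ : IsIrrCharacter _ θ) (hinv : Inv _ θ) :
    ∃ (d : ℕ) (n ε : ℤ), θ 1 = d ∧ d ∣ Nat.card ((fittingHallOf T).subgroupOf T) ∧ (ε = 1 ∨ ε = -1) ∧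
      (d : ℤ) = ε + n * Nat.card W₂ := by
  obtain ⟨h1, h2, h3, h4, h5, h6, h7, h8, h9, h10⟩ := V.s1511_hyps
  have hcW₂ : Nat.card (W₂.subgroupOf T) = Nat.card W₂ :=
    Nat.card_congr (Subgroup.subgroupOfEquivOfLe V.W₂_le).toEquiv
  have := PFV4Deg.degree_cong _ _ _ h1 h2 h3 h4 h5 h6 h7 h8 h9 h10 hθ hinv
  rwa [hcW₂] at this

/-- A nonprincipal invariant character is not linear. -/
theorem _root_.Cfsg.Agent.Lib.OddOrder.PFG.VSide.degree_ne_one (V : VSide T W₂ W₁) [hK : ((fittingHallOf T).subgroupOf T).Normal]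
    {θ : (fittingHallOf T).subgroupOf T → ℂ} (hθ : IsIrrCharacter _ θ) (hinv : Inv _ θ)
    (hne : θ ≠ fun _ => 1) : θ 1 ≠ 1 := by
  intro h1
  apply hne
  set K := (fittingHallOf T).subgroupOf T with hKdef
  -- an element outside
  obtain ⟨x, hx, hx1⟩ : ∃ x ∈ W₂, x ≠ 1 := (Subgroup.bot_or_exists_ne_one W₂).resolve_left V.W₂_ne
  have hxT : x ∈ T := V.W₂_le hx
  have hxK : (⟨x, hxT⟩ : T) ∉ K := by
    intro h
    have h2 : x ∈ fittingHallOf T ⊓ W₂ := ⟨Subgroup.mem_subgroupOf.mp h, hx⟩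
    rw [V.compl.2.2.1] at h2
    exact hx1 (Subgroup.mem_bot.mp h2)
  have hmap : (⁅K, K⁆ : Subgroup T).map T.subtype = ⁅fittingHallOf T, fittingHallOf T⁆ := by
    rw [Subgroup.map_commutator, hKdef, Subgroup.map_subgroupOf_eq_of_le V.Q_le]
  have hmem : ∀ z : T, z ∈ (⁅K, K⁆ : Subgroup T) ↔ (z : G) ∈ ⁅fittingHallOf T, fittingHallOf T⁆ := by
    intro z
    rw [← hmap]
    constructor
    · intro h
      exact ⟨z, h, rfl⟩
    · rintro ⟨y, hy, hyz⟩
      have : y = z := Subtype.ext hyz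
      rwa [← this]
  haveI : (⁅K, K⁆ : Subgroup T).Normal := Subgroup.commutator_normal K K
  refine PFB9.eq_one_of_fixed K ⁅K, K⁆ ?_ hxK hθ (fun k => hinv _ k) ?_
  · intro k hk hkC y hy
    have h3 : (y : G) * k * (y : G)⁻¹ * (k : G)⁻¹ ∈ ⁅fittingHallOf T, fittingHallOf T⁆ := (hmem _).mp hy
    have h4 : (k : G) ∈ fittingHallOf T := Subgroup.mem_subgroupOf.mp hk
    have h5 : (k : G) ∉ ⁅fittingHallOf T, fittingHallOf T⁆ := fun h => hkC ((hmem _).mpr h)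
    exact Subgroup.mem_subgroupOf.mpr (V.frob_mod h4 h5 y.2 h3)
  · exact trivial_on_comm K (isCharacter_of_isIrrCharacter hθ) h1

/-- **`θ(1) ≥ 2 p̃ - 1`** for a nonprincipal invariant character. -/
theorem _root_.Cfsg.Agent.Lib.OddOrder.PFG.VSide.degree_ge (V : VSide T W₂ W₁) [hK : ((fittingHallOf T).subgroupOf T).Normal]
    {θ : (fittingHallOf T).subgroupOf T → ℂ} (hθ : IsIrrCharacter _ θ) (hinv : Inv _ θ)
    (hne : θ ≠ fun _ => 1) :
    ∃ d : ℕ, θ 1 = d ∧ 2 * (Nat.card W₂ : ℤ) - 1 ≤ d := by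
  obtain ⟨d, n, ε, hd, hdvd, hε, hdn⟩ := V.degree_cong hθ hinv
  refine ⟨d, hd, ?_⟩
  have hd1 : d ≠ 1 := by
    intro h
    apply V.degree_ne_one hθ hinv hne
    rw [hd, h]
    simp
  have hd0 : d ≠ 0 := by
    intro h
    subst h
    have := Nat.eq_zero_of_zero_dvd hdvd
    exact (Nat.card_pos (α := (fittingHallOf T).subgroupOf T)).ne' this
  have hoddG : Odd (Nat.card G) := V.hG.1
  have hoddK : Odd (Nat.card ((fittingHallOf T).subgroupOf T)) :=
    hoddG.of_dvd_nat (by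
      have h1 : Nat.card ((fittingHallOf T).subgroupOf T) ∣ Nat.card T := Subgroup.card_subgroup_dvd_card _
      exact h1.trans (Subgroup.card_subgroup_dvd_card T))
  have hoddd : Odd d := hoddK.of_dvd_nat hdvd
  have hoddP : Odd (Nat.card W₂) := hoddG.of_dvd_nat (Subgroup.card_subgroup_dvd_card W₂)
  obtain ⟨a, ha⟩ := hoddd
  obtain ⟨b, hb⟩ := hoddP
  -- `n` is even and positive
  have hP : (1 : ℤ) ≤ Nat.card W₂ := by
    have : 0 < Nat.card W₂ := Nat.card_pos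
    exact_mod_cast this
  have hd2 : (2 : ℤ) ≤ d := by
    have : 2 ≤ d := by omega
    exact_mod_cast this
  have hneven : Even n := by
    have h1 : (d : ℤ) = 2 * a + 1 := by rw [ha]; push_cast; ring
    have h2 : ((Nat.card W₂ : ℕ) : ℤ) = 2 * b + 1 := by rw [hb]; push_cast; ring
    rw [h1, h2] at hdn
    rw [Int.even_iff]
    rcases hε with rfl | rfl <;> · ring_nf at hdn; omega
  obtain ⟨c, hc⟩ := hneven
  have hnpos : 0 < n := by
    by_contra hn
    push Not at hn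
    have : n * (Nat.card W₂ : ℤ) ≤ 0 := mul_nonpos_of_nonpos_of_nonneg hn (by omega)
    rcases hε with rfl | rfl <;> omega
  have hc1 : 1 ≤ c := by omega
  have h3 : 2 * (Nat.card W₂ : ℤ) ≤ n * (Nat.card W₂ : ℤ) := by
    apply mul_le_mul_of_nonneg_right _ (by omega)
    omega
  rcases hε with rfl | rfl <;> omega

end VSide

end Cfsg.Agent.Lib.OddOrder.PFV4Deg
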