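import Mathlib
import Mathlib.GroupTheory.SpecificGroups.ZGroup
import Cfsg.Prelude.Def_OddOrderLocal
import Cfsg.Prelude.Def_Local
import Cfsg.Agent.Lib.OddOrder.BG10
import Cfsg.Agent.Lib.OddOrder.BG10Hall
import Cfsg.Agent.Lib.Solvable.PSeries
import Cfsg.Agent.Lib.Basic.SylowUtil
import Cfsg.Agent.S1459

/-!
# Every proper subgroup of a minimal simple group of odd order has `p`-length at most one (S1410)
-/

set_option autoImplicit false
set_option linter.unusedSectionVars false

namespace Cfsg.Agent.Lib.OddOrder.PLenOne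

open Cfsg Subgroup Cfsg.Agent.Lib.OddOrder.Base Cfsg.Agent.Lib.OddOrder.BG10
  Cfsg.Agent.Lib.Solvable.PSeries

universe u

/-- The statement of S1444. -/
def ZLenHyp : Prop :=
  ∀ (H₀ : Type u) [Group H₀] [Finite H₀] [Group.IsSolvable H₀], Odd (Nat.card H₀) →
    ∀ (H R R₀ : Subgroup H₀) [H.Normal], (Nat.card H).Coprime H.index →
      Subgroup.IsComplement' H R → R₀ ≤ R → (Nat.card R₀).Prime →
      IsZGroup ↥(H ⊓ Subgroup.centralizer (R₀ : Set H₀)) →
      ∀ (p : ℕ) [Fact p.Prime], Cfsg.PLengthLE p 1 ↥⁅H, R⁆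

variable {G : Type u} [Group G] [Finite G] {p : ℕ} [hp : Fact p.Prime]

/-- `p`-length one from the index of `O_{p',p}`. -/
theorem pLengthLE_one_of_index {H : Type*} [Group H] [Finite H]
    (h : ((pPrimePCore p H).index).Coprime p) : PLengthLE p 1 H := by
  have hU2 : (upperPSeries p H 2).1 = pPrimePCore p H := upper_two
  unfold PLengthLE
  show (upperPSeries p H 3).1 = ⊤
  rw [upper_succ, eq_top_iff]
  have : GoodIdx p 2 ((upperPSeries p H 2).1.relIndex ⊤) := by
    rw [Subgroup.relIndex_top_right, hU2]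
    simpa [GoodIdx] using h
  exact le_stepAt_of_relIndex 2 _ inferInstance this

/-- Main case: `p ∈ α(M)`. -/
theorem pLength_alpha (hG : IsMinSimpleOddOrder G) (hU : UniqueHyp G) (hR : LengthHyp.{u})
    (hN : NilHyp.{u}) (hZ : ZLenHyp.{u}) {M : Subgroup G} (hMc : IsCoatom M) (hα : p ∈ alpha M) :
    PLengthLE p 1 M := by
  classical
  haveI : Group.IsSolvable M := solvable_of_coatom hG hMc
  obtain ⟨hH1, hH2, -, -, -⟩ := S1405_core hG hU hR hN hMc
  set H : Subgroup M := piCore (alpha M) M with hHdef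
  haveI hHn : H.Normal := inferInstance
  have hcardH : Nat.card (alphaCore M) = Nat.card H :=
    Subgroup.card_map_of_injective M.subtype_injective
  have hrelH : (alphaCore M).relIndex M = H.index := relIndex_map_subtype H
  have hprimes : ∀ q : ℕ, q.Prime → q ∣ Nat.card H → q ∈ alpha M := fun q hq hd =>
    hH1.2.1 q hq (hcardH ▸ hd)
  have hidx : ∀ q : ℕ, q.Prime → q ∈ alpha M → ¬ q ∣ H.index := fun q hq hqα => by
    rw [← hrelH]
    exact hH1.2.2 q hq hqα
  have hcop : (Nat.card H).Coprime H.index := by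
    apply Nat.coprime_of_dvd
    intro q hq h1 h2
    exact hidx q hq (hprimes q hq h1) h2
  -- the complement
  obtain ⟨E, hE⟩ := Subgroup.exists_right_complement'_of_coprime hcop
  -- `H ≤ M'`
  have hcomm : H ≤ commutator M := by
    haveI : (commutator M).Normal := inferInstance
    apply le_of_coprime_index
    apply Nat.coprime_of_dvd
    intro q hq h1 h2
    haveI : Fact q.Prime := ⟨hq⟩
    have hqα := hprimes q hq h1
    obtain ⟨S⟩ : Nonempty (Sylow q M) := inferInstance
    have h3 := sylow_le_commutator hG hU hR hMc (alpha_sub_sigma hG hU hMc hqα) (isMaxP_of_sylow S)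
    have h4 : (S : Subgroup M) ≤ commutator M :=
      (Subgroup.map_le_map_iff_of_injective M.subtype_injective).mp h3
    exact S.not_dvd_index (h2.trans (Subgroup.index_dvd_of_le h4))
  -- a prime `r ∉ σ(M)` dividing `|M|`
  have hMnt : Nontrivial M := by
    by_contra hn
    rw [not_nontrivial_iff_subsingleton] at hn
    exact coatom_ne_bot hG hMc (Subgroup.eq_bot_of_subsingleton M)
  have hlt : commutator M < ⊤ := Group.IsSolvable.commutator_lt_top_of_nontrivial M
  have hidx1 : (commutator M).index ≠ 1 := by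
    intro h
    exact hlt.ne (Subgroup.index_eq_one.mp h)
  obtain ⟨r, hr, hrd⟩ := Nat.exists_prime_and_dvd hidx1
  haveI hrF : Fact r.Prime := ⟨hr⟩
  have hrσ : r ∉ sigma M := by
    intro hs
    obtain ⟨S⟩ : Nonempty (Sylow r M) := inferInstance
    have h3 := sylow_le_commutator hG hU hR hMc hs (isMaxP_of_sylow S)
    have h4 : (S : Subgroup M) ≤ commutator M :=
      (Subgroup.map_le_map_iff_of_injective M.subtype_injective).mp h3
    exact S.not_dvd_index (hrd.trans (Subgroup.index_dvd_of_le h4))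
  have hrM : r ∣ Nat.card M :=
    hrd.trans ((Subgroup.index_dvd_card _))
  have hrα : r ∉ alpha M := fun h => hrσ (alpha_sub_sigma hG hU hMc h)
  -- a Sylow `r`-subgroup of `M` inside `E`
  have hEidx : E.index = Nat.card H := hE.index_eq_card
  have hrE : ¬ r ∣ E.index := by
    rw [hEidx]
    exact fun h => hrα (hprimes r hr h)
  obtain ⟨R₀⟩ : Nonempty (Sylow r E) := inferInstance
  obtain ⟨P, hP⟩ := Cfsg.Agent.Lib.Basic.SylowUtil.sylow_map_of_not_dvd_index hrE R₀
  have hPE : (P : Subgroup M) ≤ E := by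
    rw [hP]; exact Subgroup.map_subtype_le _
  obtain ⟨x, hx, hxo, hxZ, -⟩ := S1407_core hG hU hR hN hMc hrM hrσ P
  obtain ⟨y, hy, rfl⟩ := hx
  obtain ⟨z, -, rfl⟩ := hy
  -- `x₀ := z` viewed in `M`
  set x₀ : M := (P : Subgroup M).subtype z with hx₀
  have hx₀E : x₀ ∈ E := hPE z.2
  have hordx₀ : orderOf x₀ = r := by
    rw [← hxo]
    exact (Subgroup.orderOf_coe x₀).symm
  have hZ₀ : IsZGroup ↥(H ⊓ Subgroup.centralizer ((zpowers x₀ : Subgroup M) : Set M)) := by
    let f : ↥(H ⊓ Subgroup.centralizer ((zpowers x₀ : Subgroup M) : Set M)) →*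
        ↥(alphaCore M ⊓ centralizer ({(x₀ : G)} : Set G)) :=
      (M.subtype.comp (Subgroup.subtype _)).codRestrict _ (by
        rintro ⟨w, hw1, hw2⟩
        refine ⟨⟨w, hw1, rfl⟩, ?_⟩
        show (w : G) ∈ centralizer ({(x₀ : G)} : Set G)
        rw [Subgroup.mem_centralizer_iff]
        rintro _ rfl
        have h3 := (Subgroup.mem_centralizer_iff.mp hw2) x₀ (mem_zpowers x₀)
        exact congrArg Subtype.val h3)
    have hf : Function.Injective f := by
      intro a b hab
      apply Subtype.ext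
      apply Subtype.ext
      exact congrArg (fun t : ↥(alphaCore M ⊓ centralizer ({(x₀ : G)} : Set G)) => (t : G)) hab
    haveI : IsZGroup ↥(alphaCore M ⊓ centralizer ({(x₀ : G)} : Set G)) := hxZ
    exact IsZGroup.of_injective hf
  have hle : zpowers x₀ ≤ E := by rwa [zpowers_le]
  have hpr : (Nat.card (zpowers x₀)).Prime := by
    rw [Nat.card_zpowers, hordx₀]; exact hr
  have h1 := hZ M (odd_card_subgroup hG M) H E (zpowers x₀) hcop hE hle hpr hZ₀ p
  have h2 : H = ⁅H, E⁆ := (Cfsg.Agent.S1459.part_a H E hHn hcop hE hcomm).1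
  rw [← h2] at h1
  have h3 : PLengthLE p 0 (M ⧸ H) := by
    rw [pLengthLE_zero_iff, ← Subgroup.index_eq_card, Nat.coprime_comm, Nat.Prime.coprime_iff_not_dvd hp.out]
    exact hidx p hp.out hα
  exact pLengthLE_add H h1 h3

/-- **S1410** with the hypotheses made explicit. -/
theorem S1410_core (hG : IsMinSimpleOddOrder G) (hU : UniqueHyp G) (hR : LengthHyp.{u})
    (hN : NilHyp.{u}) (hZ : ZLenHyp.{u}) (H : Subgroup G) (hH : H ≠ ⊤) : PLengthLE p 1 H := by
  obtain ⟨M, hMc, hHM⟩ := exists_coatom_ge hG hH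
  have hM : PLengthLE p 1 M := by
    haveI : Group.IsSolvable M := solvable_of_coatom hG hMc
    by_cases hα : p ∈ alpha M
    · exact pLength_alpha hG hU hR hN hZ hMc hα
    · have hr : PRankLE p 2 M := by
        by_contra h
        exact hα ⟨hp.out, h⟩
      by_cases hd : p ∣ Nat.card M
      · exact pLengthLE_one_of_index (hR M (odd_card_subgroup hG M) p hd hr).2
      · have : PLengthLE p 0 M := by
          rw [pLengthLE_zero_iff, Nat.coprime_comm, Nat.Prime.coprime_iff_not_dvd hp.out]
          exact hd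
        exact pLengthLE_mono (by norm_num) this
  exact pLengthLE_of_injective (Subgroup.inclusion hHM) (Subgroup.inclusion_injective hHM) hM

end Cfsg.Agent.Lib.OddOrder.PLenOne
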